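import Cfsg.Prelude.Def_Blocks
import Cfsg.Agent.Lib.Characters.Indicator

/-!
# Degrees: natural-number API, Brauer-Fowler bounds
-/

namespace Cfsg.Agent.Lib.DegreeBounds.Basic

open scoped ComplexConjugate
open Cfsg.Agent.Lib.Induced.Basic Cfsg.Agent.Lib.Characters.Basic
open Cfsg.Agent.Lib.Characters.Complete Cfsg.Agent.Lib.Characters.Linear

universe u

variable {G : Type u} [Group G]

theorem charDegree_cast {χ : G → ℂ} (h : Cfsg.IsCharacter G χ) :
    χ 1 = (Cfsg.charDegree χ : ℂ) := by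
  obtain ⟨n, hn⟩ := exists_degree h
  rw [Cfsg.charDegree, hn, Complex.natCast_re, Nat.floor_natCast]

theorem charDegree_irr (χ : Cfsg.IrrCharacter G) :
    (χ : G → ℂ) 1 = (Cfsg.charDegree (χ : G → ℂ) : ℂ) := charDegree_cast (isCharacter_irr χ)

theorem charDegree_pos (χ : Cfsg.IrrCharacter G) : 0 < Cfsg.charDegree (χ : G → ℂ) := by
  obtain ⟨n, hn, h⟩ := exists_degree_pos χ
  rw [charDegree_irr χ, Nat.cast_inj] at h
  omega

theorem charDegree_dvd [Finite G] (χ : Cfsg.IrrCharacter G) :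
    Cfsg.charDegree (χ : G → ℂ) ∣ Nat.card G := by
  obtain ⟨d, -, hd, h⟩ := Cfsg.Agent.Lib.Characters.Degree.exists_degree_dvd χ
  rw [charDegree_irr χ, Nat.cast_inj] at h
  exact h ▸ hd

theorem sum_charDegree_sq [Finite G] [Fintype (Cfsg.IrrCharacter G)] :
    ∑ χ : Cfsg.IrrCharacter G, Cfsg.charDegree (χ : G → ℂ) ^ 2 = Nat.card G := by
  have h := finsum_degree_sq (G := G)
  rw [finsum_eq_sum_of_fintype] at h
  simp only [charDegree_irr] at h
  exact_mod_cast h

theorem sum_centralizer [Fintype G] :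
    ∑ x : G, Nat.card (Subgroup.centralizer ({x} : Set G)) =
      Nat.card (Cfsg.IrrCharacter G) * Nat.card G := by
  classical
  have := Fintype.ofFinite (Cfsg.IrrCharacter G)
  have hrow : ∀ χ : Cfsg.IrrCharacter G,
      ∑ x : G, (χ : G → ℂ) x * conj ((χ : G → ℂ) x) = Nat.card G := by
    intro χ
    have h := classInner_self_irr χ
    rw [Cfsg.classInner, inv_mul_eq_one₀ natCard_ne_zero] at h
    exact h.symm
  have key : ((∑ x : G, Nat.card (Subgroup.centralizer ({x} : Set G)) : ℕ) : ℂ) =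
      ((Nat.card (Cfsg.IrrCharacter G) * Nat.card G : ℕ) : ℂ) := by
    push_cast
    calc ∑ x : G, (Nat.card (Subgroup.centralizer ({x} : Set G)) : ℂ)
        = ∑ x : G, ∑ χ : Cfsg.IrrCharacter G, (χ : G → ℂ) x * conj ((χ : G → ℂ) x) := by
          refine Finset.sum_congr rfl fun x _ => ?_
          rw [sum_irr_mul_conj, if_pos (IsConj.refl x)]
      _ = _ := by
          rw [Finset.sum_comm, Finset.sum_congr rfl fun χ _ => hrow χ, Finset.sum_const,
            Finset.card_univ, nsmul_eq_mul, Fintype.card_eq_nat_card]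
  exact_mod_cast key

/-- The Brauer-Fowler bounds. -/
theorem brauer_fowler [Fintype G] (heven : Even (Nat.card G)) (t : ℕ)
    (ht : Nat.card {x : G // orderOf x = 2} = t) :
    (∃ x : G, x ≠ 1 ∧ ((Subgroup.centralizer ({x} : Set G)).index : ℚ) ≤
      (((Nat.card G : ℚ) - 1) / t) ^ 2) ∧
    ∃ χ : Cfsg.IrrCharacter G, (χ : G → ℂ) ≠ (fun _ => 1) ∧
      (∀ g : G, ((χ : G → ℂ) g).im = 0) ∧
      (Cfsg.charDegree (χ : G → ℂ) : ℚ) ≤ ((Nat.card G : ℚ) - 1) / t := by
  classical
  have := Fintype.ofFinite (Cfsg.IrrCharacter G)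
  set g := Nat.card G with hg
  set d : Cfsg.IrrCharacter G → ℕ := fun χ => Cfsg.charDegree (χ : G → ℂ) with hd
  set R := Finset.univ.filter (fun χ : Cfsg.IrrCharacter G => ∀ x : G, ((χ : G → ℂ) x).im = 0)
    with hR
  set X := R.erase (oneChar G) with hX
  have ht0 : 0 < t := by
    rw [← ht]
    obtain ⟨x, hx⟩ := exists_prime_orderOf_dvd_card' (G := G) 2 heven.two_dvd
    exact Nat.card_pos_iff.mpr ⟨⟨⟨x, hx⟩⟩, inferInstance⟩
  have htR : (t : ℚ) ≤ ∑ χ ∈ X, (d χ : ℚ) := by
    have hcount : Nat.card {s : G // s * s = 1} = t + 1 := by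
      rw [← ht, Nat.card_eq_fintype_card, Nat.card_eq_fintype_card, Fintype.card_subtype,
        Fintype.card_subtype]
      have : Finset.univ.filter (fun s : G => s * s = 1) =
          insert 1 (Finset.univ.filter fun s : G => orderOf s = 2) := by
        ext s
        simp only [Finset.mem_filter, Finset.mem_univ, true_and, Finset.mem_insert,
          orderOf_eq_prime_iff, pow_two]
        refine ⟨fun h => (em (s = 1)).imp_right fun h1 => ⟨h, h1⟩, ?_⟩
        rintro (rfl | h)
        · exact mul_one 1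
        · exact h.1
      rw [this, Finset.card_insert_of_notMem (by simp)]
    have h := Cfsg.Agent.Lib.Characters.Indicator.card_sq_eq_one (G := G)
    rw [hcount, finsum_eq_sum_of_fintype] at h
    have hre := congrArg Complex.re h
    rw [Complex.natCast_re, Complex.re_sum] at hre
    have hle : ((t + 1 : ℕ) : ℝ) ≤ ∑ χ ∈ R, (d χ : ℝ) := by
      rw [hre, hR, Finset.sum_filter]
      refine Finset.sum_le_sum fun χ _ => ?_
      obtain ⟨h1, h0⟩ := Cfsg.Agent.Lib.Characters.Indicator.indicator_spec χ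
      rw [charDegree_irr χ]
      split_ifs with hx
      · rcases h1 hx with e | e
        · rw [e]; simp [hd]
        · rw [e]; simp [hd]
      · rw [h0 hx]; simp
    have hone : oneChar G ∈ R := by simp [hR, oneChar_apply]
    have hd1 : d (oneChar G) = 1 := by
      have := charDegree_irr (oneChar G)
      rw [oneChar_apply] at this
      exact_mod_cast this.symm
    rw [← Finset.add_sum_erase _ _ hone, hd1] at hle
    have hle' : (t : ℝ) ≤ ∑ χ ∈ X, (d χ : ℝ) := by
      push_cast at hle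
      linarith
    exact_mod_cast hle'
  have hsq : ∑ χ ∈ X, (d χ : ℚ) ^ 2 ≤ (g : ℚ) - 1 := by
    have h1 : ∑ χ ∈ X, d χ ^ 2 + 1 ≤ g := by
      rw [hg, ← sum_charDegree_sq]
      have hd1 : d (oneChar G) ^ 2 = 1 := by
        have := charDegree_irr (oneChar G)
        rw [oneChar_apply] at this
        have h1 : d (oneChar G) = 1 := by exact_mod_cast this.symm
        rw [h1, one_pow]
      calc ∑ χ ∈ X, d χ ^ 2 + 1 = ∑ χ ∈ insert (oneChar G) X, d χ ^ 2 := by
            rw [Finset.sum_insert (Finset.notMem_erase _ _), hd1, add_comm]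
        _ ≤ ∑ χ : Cfsg.IrrCharacter G, d χ ^ 2 :=
            Finset.sum_le_sum_of_subset (Finset.subset_univ _)
    have h2 : ((∑ χ ∈ X, d χ ^ 2 + 1 : ℕ) : ℚ) ≤ (g : ℚ) := by exact_mod_cast h1
    push_cast at h2
    linarith
  have hg2 : (2 : ℚ) ≤ g := by
    have : 2 ≤ g := Nat.le_of_dvd Nat.card_pos heven.two_dvd
    exact_mod_cast this
  have ht' : (0 : ℚ) < t := Nat.cast_pos.mpr ht0
  set α : ℚ := ((g : ℚ) - 1) / t with hα
  have hαt : α * t = (g : ℚ) - 1 := div_mul_cancel₀ _ ht'.ne'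
  have hα0 : 0 < α := div_pos (by linarith) ht'
  refine ⟨?_, ?_⟩
  · by_contra hcon
    push Not at hcon
    have hsum : ((g : ℚ)) * ((Nat.card (Cfsg.IrrCharacter G) : ℚ) - 1) * α ^ 2 <
        g * ((g : ℚ) - 1) := by
      have h := congrArg (fun n : ℕ => (n : ℚ)) (sum_centralizer (G := G))
      simp only [Nat.cast_sum, Nat.cast_mul] at h
      rw [← Finset.add_sum_erase _ _ (Finset.mem_univ (1 : G)), ← hg] at h
      have h1 : Nat.card (Subgroup.centralizer ({1} : Set G)) = g := by
        rw [show Subgroup.centralizer ({1} : Set G) = ⊤ from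
          Subgroup.centralizer_eq_top_iff_subset.mpr (by simp), Subgroup.card_top]
      rw [h1] at h
      have hb : ∑ x ∈ Finset.univ.erase (1 : G),
          (Nat.card (Subgroup.centralizer ({x} : Set G)) : ℚ) * α ^ 2 <
          ∑ _x ∈ Finset.univ.erase (1 : G), (g : ℚ) := by
        obtain ⟨x, hx⟩ := exists_prime_orderOf_dvd_card' (G := G) 2 heven.two_dvd
        refine Finset.sum_lt_sum_of_nonempty ⟨x, Finset.mem_erase.mpr
          ⟨fun h0 => by simp [h0] at hx, Finset.mem_univ _⟩⟩ fun y hy => ?_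
        have hy' := hcon y (Finset.mem_erase.mp hy).1
        have hm := (Subgroup.centralizer ({y} : Set G)).card_mul_index
        have hm' : (Nat.card (Subgroup.centralizer ({y} : Set G)) : ℚ) *
            (Subgroup.centralizer ({y} : Set G)).index = g := by exact_mod_cast hm
        rw [← hm']
        exact mul_lt_mul_of_pos_left hy' (Nat.cast_pos.mpr Nat.card_pos)
      rw [← Finset.sum_mul, Finset.sum_const, Finset.card_erase_of_mem (Finset.mem_univ _),
        nsmul_eq_mul, Finset.card_univ, Fintype.card_eq_nat_card, ← hg] at hb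
      rw [Nat.cast_sub Nat.card_pos, Nat.cast_one] at hb
      have h2 : ∑ x ∈ Finset.univ.erase (1 : G),
          (Nat.card (Subgroup.centralizer ({x} : Set G)) : ℚ) =
          (g : ℚ) * ((Nat.card (Cfsg.IrrCharacter G) : ℚ) - 1) := by linear_combination h
      rw [h2] at hb
      linarith
    have hcs := sq_sum_le_card_mul_sum_sq (s := X) (f := fun χ => (d χ : ℚ))
    have hXk : (X.card : ℚ) ≤ (Nat.card (Cfsg.IrrCharacter G) : ℚ) - 1 := by
      have h1 : X.card + 1 ≤ Nat.card (Cfsg.IrrCharacter G) := by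
        rw [← Finset.card_insert_of_notMem (Finset.notMem_erase (oneChar G) R),
          Nat.card_eq_fintype_card]
        exact Finset.card_le_univ _
      have h2 : ((X.card + 1 : ℕ) : ℚ) ≤ (Nat.card (Cfsg.IrrCharacter G) : ℚ) := by
        exact_mod_cast h1
      push_cast at h2
      linarith
    have h3 : (t : ℚ) ^ 2 ≤ ((Nat.card (Cfsg.IrrCharacter G) : ℚ) - 1) * ((g : ℚ) - 1) := by
      calc (t : ℚ) ^ 2 ≤ (∑ χ ∈ X, (d χ : ℚ)) ^ 2 := by gcongr
        _ ≤ (X.card : ℚ) * ∑ χ ∈ X, (d χ : ℚ) ^ 2 := hcs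
        _ ≤ _ := mul_le_mul hXk hsq (Finset.sum_nonneg fun _ _ => sq_nonneg _)
            (le_trans (Nat.cast_nonneg _) hXk)
    have h4 : ((Nat.card (Cfsg.IrrCharacter G) : ℚ) - 1) * α ^ 2 < (g : ℚ) - 1 := by
      nlinarith
    have h5 : (g : ℚ) - 1 ≤ ((Nat.card (Cfsg.IrrCharacter G) : ℚ) - 1) * α ^ 2 := by
      rw [hα, div_pow, ← mul_div_assoc, le_div_iff₀ (pow_pos ht' 2)]
      nlinarith
    linarith
  · by_contra hcon
    push Not at hcon
    have hne : X.Nonempty := by
      rcases X.eq_empty_or_nonempty with h | h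
      · rw [h, Finset.sum_empty] at htR; linarith
      · exact h
    have hlt : ∑ χ ∈ X, α * (d χ : ℚ) < ∑ χ ∈ X, (d χ : ℚ) ^ 2 := by
      refine Finset.sum_lt_sum_of_nonempty hne fun χ hχ => ?_
      have h1 : χ ≠ oneChar G := (Finset.mem_erase.mp hχ).1
      have h2 := (Finset.mem_filter.mp (Finset.mem_erase.mp hχ).2).2
      have h3 := hcon χ (fun h => h1 (Subtype.ext h)) h2
      rw [pow_two]
      exact mul_lt_mul_of_pos_right h3 (Nat.cast_pos.mpr (charDegree_pos χ))
    rw [← Finset.mul_sum] at hlt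
    nlinarith

end Cfsg.Agent.Lib.DegreeBounds.Basic
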