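import Cfsg.Agent.Lib.DegreeBounds.Basic
import Cfsg.Agent.Lib.Characters.Kernel
import Cfsg.Agent.Lib.BC78.PowChar
import Cfsg.Agent.Lib.Clifford.Rep

/-!
# Blichfeldt: an abelian Hall subgroup for the primes above the degree plus one
-/

namespace Cfsg.Agent.Lib.DegreeBounds.Blichfeldt

open scoped ComplexConjugate
open Cfsg.Agent.Lib.Induced.Basic Cfsg.Agent.Lib.Characters.Basic
open Cfsg.Agent.Lib.Characters.Complete Cfsg.Agent.Lib.Characters.Linear
open Cfsg.Agent.Lib.DegreeBounds.Basic

universe u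

/-- All prime divisors exceed `N + 1`. -/
def IsBig (N m : ℕ) : Prop := ∀ q : ℕ, q.Prime → q ∣ m → N + 1 < q

/-- All prime divisors are at most `N + 1`. -/
def IsSmall (N m : ℕ) : Prop := ∀ q : ℕ, q.Prime → q ∣ m → q ≤ N + 1

theorem IsBig.of_dvd {N a b : ℕ} (h : IsBig N b) (hab : a ∣ b) : IsBig N a :=
  fun q hq ha => h q hq (ha.trans hab)

theorem IsBig.mul {N a b : ℕ} (h : IsBig N a) (h' : IsBig N b) : IsBig N (a * b) :=
  fun q hq hd => (hq.dvd_mul.mp hd).elim (h q hq) (h' q hq)

theorem IsSmall.mul {N a b : ℕ} (h : IsSmall N a) (h' : IsSmall N b) : IsSmall N (a * b) :=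
  fun q hq hd => (hq.dvd_mul.mp hd).elim (h q hq) (h' q hq)

theorem coprime_of_big_small {N a b : ℕ} (ha : IsBig N a) (hb : IsSmall N b) : a.Coprime b :=
  Nat.coprime_of_dvd fun q hq hqa hqb => absurd (ha q hq hqa) (not_lt.mpr (hb q hq hqb))

theorem isBig_prime_pow {N p k : ℕ} (hp : p.Prime) (h : N + 1 < p) : IsBig N (p ^ k) :=
  fun q hq hd => ((Nat.prime_dvd_prime_iff_eq hq hp).mp (hq.dvd_of_dvd_pow hd)).symm ▸ h

/-- A faithful function: only the identity takes the value at the identity. -/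
def Faithful {G : Type u} [Group G] (χ : G → ℂ) : Prop := ∀ g : G, χ g = χ 1 → g = 1

variable {G : Type u} [Group G] [Finite G]

/-- Irreducible constituents of bounded degree that separate the elements from `1`. -/
theorem exists_constituent {χ : G → ℂ} (hχ : Cfsg.IsCharacter G χ) :
    ∃ m : Multiset (Cfsg.IrrCharacter G),
      (∀ a ∈ m, Cfsg.charDegree (a : G → ℂ) ≤ Cfsg.charDegree χ) ∧
      ∀ g : G, (∀ a ∈ m, (a : G → ℂ) g = (a : G → ℂ) 1) → χ g = χ 1 := by
  obtain ⟨m, hm⟩ := exists_multiset_sum hχ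
  have hval : ∀ g : G, χ g = (m.map fun a : Cfsg.IrrCharacter G => (a : G → ℂ) g).sum := by
    intro g
    rw [hm]
    refine Multiset.induction_on m ?_ ?_
    · simp
    · intro a s ih
      simp [ih]
  refine ⟨m, fun a ha => ?_, fun g hg => ?_⟩
  · have h1 := hval 1
    rw [charDegree_cast hχ] at h1
    simp only [charDegree_irr] at h1
    have h2 : ((m.map fun b : Cfsg.IrrCharacter G => Cfsg.charDegree (b : G → ℂ)).sum : ℂ) =
        (m.map fun b : Cfsg.IrrCharacter G => (Cfsg.charDegree (b : G → ℂ) : ℂ)).sum := by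
      rw [Nat.cast_multiset_sum, Multiset.map_map]
      rfl
    rw [← h2, Nat.cast_inj] at h1
    rw [h1]
    exact Multiset.single_le_sum (fun _ _ => Nat.zero_le _) _ (Multiset.mem_map_of_mem _ ha)
  · rw [hval, hval 1]
    exact congrArg Multiset.sum (Multiset.map_congr rfl hg)

theorem faithful_restrict {χ : G → ℂ} (hf : Faithful χ) (H : Subgroup G) :
    Faithful (χ ∘ H.subtype) := fun h hh => Subtype.ext (hf h hh)

theorem charDegree_restrict (χ : G → ℂ) (H : Subgroup G) :
    Cfsg.charDegree (χ ∘ H.subtype) = Cfsg.charDegree χ := rfl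

/-- A group whose order has only big primes is abelian. -/
theorem comm_of_big {N : ℕ} (hG : IsBig N (Nat.card G)) {χ : G → ℂ}
    (hχ : Cfsg.IsCharacter G χ) (hf : Faithful χ) (hN : Cfsg.charDegree χ ≤ N) (a b : G) :
    a * b = b * a := by
  obtain ⟨m, hdeg, hker⟩ := exists_constituent hχ
  rw [← commutatorElement_eq_one_iff_mul_comm]
  refine hf _ (hker _ fun c hc => ?_)
  have h1 : Cfsg.charDegree (c : G → ℂ) = 1 := by
    by_contra hne
    obtain ⟨q, hq, hqd⟩ := Nat.exists_prime_and_dvd hne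
    have := hG q hq (hqd.trans (charDegree_dvd c))
    have := Nat.le_of_dvd (charDegree_pos c) hqd
    have := hdeg c hc
    omega
  have h1' : (c : G → ℂ) 1 = 1 := by rw [charDegree_irr, h1, Nat.cast_one]
  have hc' := isCharacter_irr c
  rw [h1', ← degOneHom_apply hc' h1', map_commutatorElement,
    commutatorElement_eq_one_iff_mul_comm.mpr (mul_comm _ _), Units.val_one]

theorem comm_of_big_subgroup {N : ℕ} (H : Subgroup G) (hH : IsBig N (Nat.card H)) {χ : G → ℂ}
    (hχ : Cfsg.IsCharacter G χ) (hf : Faithful χ) (hN : Cfsg.charDegree χ ≤ N) :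
    ∀ a ∈ H, ∀ b ∈ H, a * b = b * a := fun a ha b hb =>
  congrArg Subtype.val (comm_of_big (N := N) hH (isCharacter_comp H.subtype hχ)
    (faithful_restrict hf H) hN ⟨a, ha⟩ ⟨b, hb⟩)

/-- An element of big prime order has some coprime power with a different character value. -/
theorem exists_pow_ne {χ : G → ℂ} (hχ : Cfsg.IsCharacter G χ) {p : ℕ} (hp : p.Prime)
    (hn : Cfsg.charDegree χ + 1 < p) {x : G} (hx : x ^ p = 1) (hx1 : χ x ≠ χ 1) :
    ∃ j : ℕ, 1 ≤ j ∧ j < p ∧ χ (x ^ j) ≠ χ x := by
  classical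
  by_contra hcon
  push Not at hcon
  obtain ⟨d, ρ, rfl⟩ := hχ
  obtain ⟨ι, hι, b, ζ, hb, hcard, hchar⟩ :=
    Cfsg.Agent.Lib.Characters.Diag.exists_eigenbasis ρ x hp.ne_zero hx
  set n := Cfsg.charDegree ρ.character
  have hn1 : ρ.character 1 = (n : ℂ) := charDegree_cast ⟨d, ρ, rfl⟩
  have hnι : n = Fintype.card ι := by
    rw [Representation.char_one, ← hcard] at hn1
    exact_mod_cast hn1.symm
  have hpow : ∀ j : ℕ, ρ.character (x ^ j) = ∑ i, ζ i ^ j := by
    intro j
    refine Cfsg.Agent.Lib.Characters.Diag.trace_eq_sum_eigenvalues b _ _ fun i => ?_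
    induction j with
    | zero => simp
    | succ j ih =>
      rw [pow_succ, map_mul, Module.End.mul_apply, (hb i).1, map_smul, ih, smul_smul, pow_succ']
  set m := (Finset.univ.filter fun i : ι => ζ i = 1).card with hm
  have hsum : ∑ j ∈ Finset.range p, ρ.character (x ^ j) = ((p * m : ℕ) : ℂ) := by
    simp only [hpow]
    rw [Finset.sum_comm]
    have hgeom : ∀ i, ∑ j ∈ Finset.range p, ζ i ^ j = if ζ i = 1 then (p : ℂ) else 0 := by
      intro i
      split_ifs with h
      · simp [h]
      · rw [geom_sum_eq h, (hb i).2, sub_self, zero_div]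
    rw [Finset.sum_congr rfl fun i _ => hgeom i, ← Finset.sum_filter, Finset.sum_const,
      nsmul_eq_mul, ← hm]
    push_cast
    ring
  have hsum' : ∑ j ∈ Finset.range p, ρ.character (x ^ j) =
      (n : ℂ) + ((p - 1 : ℕ) : ℂ) * ρ.character x := by
    rw [Finset.range_eq_Ico, Finset.sum_eq_sum_Ico_succ_bot hp.pos, pow_zero, hn1,
      Finset.sum_congr rfl fun j hj =>
        hcon j (Finset.mem_Ico.mp hj).1 (Finset.mem_Ico.mp hj).2]
    simp
  rw [hsum] at hsum'
  have hp1 : ((p - 1 : ℕ) : ℂ) ≠ 0 := Nat.cast_ne_zero.mpr (by omega)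
  have hq : IsIntegral ℤ (((((p * m : ℕ) : ℤ) - n : ℤ) : ℚ) / ((p - 1 : ℕ) : ℚ)) := by
    refine (isIntegral_algHom_iff ((algebraMap ℚ ℂ).toIntAlgHom)
      (algebraMap ℚ ℂ).injective).mp ?_
    have hx' : ρ.character x =
        (((((p * m : ℕ) : ℤ) - n : ℤ) : ℂ)) / ((p - 1 : ℕ) : ℂ) := by
      rw [eq_div_iff hp1]
      push_cast at hsum' ⊢
      linear_combination -hsum'
    have := isIntegral_apply (⟨d, ρ, rfl⟩ : Cfsg.IsCharacter G ρ.character) x
    rw [hx'] at this
    simpa using this
  obtain ⟨z, hz⟩ := IsIntegrallyClosed.isIntegral_iff.mp hq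
  have hz' : ((p * m : ℕ) : ℤ) - n = z * ((p - 1 : ℕ) : ℤ) := by
    rw [eq_intCast, eq_div_iff (Nat.cast_ne_zero.mpr (by omega))] at hz
    exact_mod_cast hz.symm
  have hmn : m ≤ n := hnι ▸ Finset.card_le_univ _
  have hdvd : ((p - 1 : ℕ) : ℤ) ∣ (n : ℤ) - m := by
    refine ⟨(m : ℤ) - z, ?_⟩
    have hp' : ((p - 1 : ℕ) : ℤ) = (p : ℤ) - 1 := by omega
    rw [hp'] at hz' ⊢
    push_cast at hz'
    linear_combination -hz'
  have hmn' : m = n := by
    rw [← Nat.cast_sub hmn, Int.natCast_dvd_natCast] at hdvd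
    rcases Nat.eq_zero_or_pos (n - m) with h | h
    · omega
    · have := Nat.le_of_dvd h hdvd
      omega
  have hall : ∀ i, ζ i = 1 := by
    rw [hnι, hm, ← Finset.card_univ] at hmn'
    intro i
    have := Finset.card_filter_eq_iff.mp hmn' i (Finset.mem_univ i)
    exact this
  have hid : ρ x = LinearMap.id := b.ext fun i => by
    rw [(hb i).1, hall i, one_smul, LinearMap.id_coe, id_eq]
  exact hx1 (by rw [Representation.char_one, Representation.character, hid, LinearMap.trace_id])

/-- The exponent twisting only the `p`-part. -/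
theorem exists_twist {p : ℕ} (hp : p.Prime) (hpG : p ∣ Nat.card G) {j : ℕ} (hj : 1 ≤ j)
    (hj' : j < p) :
    ∃ k : ℕ, k.Coprime (Nat.card G) ∧ k ≡ j [MOD p] ∧
      ∀ h : G, ¬ p ∣ orderOf h → h ^ k = h := by
  obtain ⟨a, b, hb, hab⟩ := Nat.exists_eq_pow_mul_and_not_dvd (Nat.card_pos (α := G)).ne' p hp.ne_one
  have ha : 1 ≤ a := by
    by_contra h
    obtain rfl : a = 0 := by omega
    rw [pow_zero, one_mul] at hab
    exact hb (hab ▸ hpG)
  have hcop : (p ^ a).Coprime b := (hp.coprime_iff_not_dvd.mpr hb).pow_left a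
  obtain ⟨k, hk1, hk2⟩ := Nat.chineseRemainder hcop j 1
  have hkp : k ≡ j [MOD p] := hk1.of_dvd (dvd_pow_self p (by omega))
  refine ⟨k, ?_, hkp, fun h hh => ?_⟩
  · rw [hab]
    refine Nat.Coprime.mul_right (Nat.Coprime.pow_right a ?_) ?_
    · rw [Nat.coprime_comm, hp.coprime_iff_not_dvd]
      intro hd
      have h0 : j ≡ 0 [MOD p] := hkp.symm.trans (Nat.modEq_zero_iff_dvd.mpr hd)
      have := Nat.le_of_dvd hj (Nat.modEq_zero_iff_dvd.mp h0)
      omega
    · show Nat.gcd k b = 1
      rw [hk2.gcd_eq, Nat.gcd_one_left]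
  · have hd : orderOf h ∣ b := by
      have h1 : orderOf h ∣ p ^ a * b := hab ▸ orderOf_dvd_natCard h
      exact ((hp.coprime_iff_not_dvd.mpr hh).symm.pow_right a).dvd_of_dvd_mul_left h1
    calc h ^ k = h ^ 1 := pow_eq_pow_iff_modEq.mpr (hk2.of_dvd hd)
      _ = h := pow_one h

/-- An irreducible faithful character of small degree forces mixed element orders. -/
theorem exists_mixed_order {χ : G → ℂ} (hχ : Cfsg.IsIrrCharacter G χ) (hf : Faithful χ)
    {p q : ℕ} (hp : p.Prime) (hq : q.Prime) (hpn : Cfsg.charDegree χ + 1 < p)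
    (hqn : Cfsg.charDegree χ + 1 < q) (hpG : p ∣ Nat.card G) (hqG : q ∣ Nat.card G) :
    ∃ z : G, p ∣ orderOf z ∧ q ∣ orderOf z := by
  classical
  have := Fintype.ofFinite G
  by_contra hcon
  push Not at hcon
  have htwist : ∀ {r : ℕ}, r.Prime → r ∣ Nat.card G → Cfsg.charDegree χ + 1 < r →
      ∃ ψ : Cfsg.IrrCharacter G, (ψ : G → ℂ) ≠ χ ∧
        ∀ h : G, ¬ r ∣ orderOf h → (ψ : G → ℂ) h = χ h := by
    intro r hr hrG hrn
    have : Fact r.Prime := ⟨hr⟩
    obtain ⟨x, hx⟩ := exists_prime_orderOf_dvd_card' (G := G) r hrG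
    obtain ⟨j, hj, hj', hne⟩ := exists_pow_ne (IsCharacter_of_isIrrCharacter hχ) hr hrn
      (hx ▸ pow_orderOf_eq_one x) fun h => by
        have := hf x h
        rw [this, orderOf_one] at hx
        exact hr.ne_one hx.symm
    obtain ⟨k, hk, hkj, hfix⟩ := exists_twist hr hrG hj hj'
    refine ⟨⟨_, Cfsg.Agent.Lib.BC78.PowChar.isIrrCharacter_pow hχ hk⟩, fun h => hne ?_,
      fun h hh => by show χ (h ^ k) = χ h; rw [hfix h hh]⟩
    have h1 := congrFun h x
    rw [show x ^ j = x ^ k from pow_eq_pow_iff_modEq.mpr (hx ▸ hkj.symm)]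
    exact h1
  obtain ⟨A, hA, hA'⟩ := htwist hp hpG hpn
  obtain ⟨B, hB, hB'⟩ := htwist hq hqG hqn
  set C : Cfsg.IrrCharacter G := ⟨χ, hχ⟩
  have hzero : Cfsg.classInner ((A : G → ℂ) - χ) ((B : G → ℂ) - χ) = 0 := by
    rw [Cfsg.classInner, Finset.sum_eq_zero, mul_zero]
    intro h _
    by_cases hph : p ∣ orderOf h
    · rw [Pi.sub_apply, Pi.sub_apply, hB' h (hcon h hph), sub_self, map_zero, mul_zero]
    · rw [Pi.sub_apply, hA' h hph, sub_self, zero_mul]
  obtain ⟨k, hk⟩ := exists_classInner_nat (isCharacter_irr A) (isCharacter_irr B)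
  rw [classInner_sub_left, classInner_sub_right, classInner_sub_right, hk,
    classInner_irr_of_ne (χ := A) (ψ := C) fun h => hA (congrArg Subtype.val h),
    classInner_irr_of_ne (χ := C) (ψ := B) fun h => hB (congrArg Subtype.val h).symm,
    classInner_self_irr C] at hzero
  have : (k : ℂ) + 1 = 0 := by linear_combination hzero
  have h2 : k + 1 = 0 := by exact_mod_cast this
  omega

/-- The goal: an abelian subgroup whose order has big primes and whose index has small ones. -/
def HasBigHall (N : ℕ) (G : Type u) [Group G] : Prop :=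
  ∃ A : Subgroup G, (∀ x ∈ A, ∀ y ∈ A, x * y = y * x) ∧
    IsBig N (Nat.card A) ∧ IsSmall N A.index

theorem hasBigHall_of_subgroup {N : ℕ} (H : Subgroup G) (hH : HasBigHall N H)
    (hi : IsSmall N H.index) : HasBigHall N G := by
  obtain ⟨A, hA, hb, hs⟩ := hH
  refine ⟨A.map H.subtype, ?_, ?_, ?_⟩
  · rintro _ ⟨x, hx, rfl⟩ _ ⟨y, hy, rfl⟩
    exact congrArg Subtype.val (hA x hx y hy)
  · rwa [Subgroup.card_map_of_injective H.subtype_injective]
  · rw [Subgroup.index_map_subtype]
    exact hs.mul hi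

theorem hasBigHall_of_comm {N : ℕ} (hcomm : ∀ x y : G, x * y = y * x) : HasBigHall N G := by
  let A : Subgroup G :=
    { carrier := {g | IsBig N (orderOf g)}
      one_mem' := fun q hq h => absurd (Nat.dvd_one.mp (orderOf_one (G := G) ▸ h)) hq.ne_one
      mul_mem' := fun {a b} ha hb =>
        (ha.mul hb).of_dvd (Commute.orderOf_mul_dvd_mul_orderOf (hcomm a b))
      inv_mem' := fun {a} ha => by
        show IsBig N (orderOf a⁻¹)
        rw [orderOf_inv]
        exact ha }
  refine ⟨A, fun x _ y _ => hcomm x y, fun q hq hd => ?_, fun q hq hd => ?_⟩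
  · have : Fact q.Prime := ⟨hq⟩
    obtain ⟨x, hx⟩ := exists_prime_orderOf_dvd_card' (G := A) q hd
    have := x.2 q hq (by rw [Subgroup.orderOf_coe, hx])
    exact this
  · by_contra hbig
    have : Fact q.Prime := ⟨hq⟩
    let P : Sylow q G := default
    have hle : (P : Subgroup G) ≤ A := fun x hx => by
      obtain ⟨k, hk⟩ := IsPGroup.iff_orderOf.mp P.isPGroup' ⟨x, hx⟩
      show IsBig N (orderOf x)
      rw [← Subgroup.orderOf_coe] at hk
      rw [hk]
      exact isBig_prime_pow hq (by omega)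
    exact P.not_dvd_index (hd.trans (Subgroup.index_dvd_of_le hle))

/-- One step: a nontrivial normal subgroup whose quotient carries a faithful character of small
degree. -/
theorem hall_step {N : ℕ} (K : Subgroup G) [K.Normal]
    (IH : ∀ (H : Subgroup G), H ≠ ⊤ → HasBigHall N H)
    (B : Subgroup (G ⧸ K)) (hB : IsSmall N B.index)
    (htop : B = ⊤ → HasBigHall N G) : HasBigHall N G := by
  by_cases h : B.comap (QuotientGroup.mk' K) = ⊤
  · refine htop (Subgroup.eq_top_iff' _ |>.mpr fun x => ?_)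
    obtain ⟨g, rfl⟩ := QuotientGroup.mk'_surjective K x
    exact Subgroup.mem_comap.mp (h ▸ Subgroup.mem_top g)
  · refine hasBigHall_of_subgroup _ (IH _ h) ?_
    rwa [Subgroup.index_comap_of_surjective _ (QuotientGroup.mk'_surjective K)]

omit [Finite G] in
theorem card_lt_of_ne_top [Finite G] {H : Subgroup G} (h : H ≠ ⊤) :
    Nat.card H < Nat.card G :=
  lt_of_le_of_ne (Subgroup.card_le_card_group H) fun e => h (Subgroup.eq_top_of_card_eq H e)

/-- Irreducible faithful case without a big central element. -/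
theorem hall_centerless {N : ℕ} {χ : G → ℂ} (hχ : Cfsg.IsIrrCharacter G χ) (hf : Faithful χ)
    (hN : Cfsg.charDegree χ ≤ N)
    (hcent : ∀ q : ℕ, q.Prime → N + 1 < q → ∀ g ∈ Subgroup.center G, orderOf g ≠ q)
    (IH : ∀ (H : Subgroup G), H ≠ ⊤ → HasBigHall N H) : HasBigHall N G := by
  classical
  have := Fintype.ofFinite G
  obtain ⟨A, ⟨hAc, hAb⟩, hmax⟩ := Set.Finite.exists_maximalFor
    (fun A : Subgroup G => Nat.card A)
    {A : Subgroup G | (∀ x ∈ A, ∀ y ∈ A, x * y = y * x) ∧ IsBig N (Nat.card A)}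
    (Set.toFinite _) ⟨⊥, fun x hx y hy => by
      rw [Subgroup.mem_bot.mp hx, Subgroup.mem_bot.mp hy],
      fun q hq hd => absurd (Nat.dvd_one.mp (Subgroup.card_bot (G := G) ▸ hd)) hq.ne_one⟩
  -- maximality, in usable form
  have hmax' : ∀ A' : Subgroup G, (∀ x ∈ A', ∀ y ∈ A', x * y = y * x) →
      IsBig N (Nat.card A') → Nat.card A' ≤ Nat.card A := fun A' h1 h2 => by
    rcases le_total (Nat.card A') (Nat.card A) with h | h
    · exact h
    · exact hmax ⟨h1, h2⟩ h
  -- a centraliser carrying all big divisors of its order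
  have hcen : ∀ w : G, ∀ r : ℕ, r.Prime → N + 1 < r → orderOf w = r →
      ∃ A' : Subgroup G, (∀ x ∈ A', ∀ y ∈ A', x * y = y * x) ∧ IsBig N (Nat.card A') ∧
        ∀ d : ℕ, IsBig N d → d ∣ Nat.card (Subgroup.centralizer ({w} : Set G)) →
          d ∣ Nat.card A' := by
    intro w r hr hrN hw
    have hne : Subgroup.centralizer ({w} : Set G) ≠ ⊤ := fun h =>
      hcent r hr hrN w (Subgroup.centralizer_eq_top_iff_subset.mp h rfl) hw
    obtain ⟨B, hB, hBb, hBs⟩ := IH _ hne
    refine ⟨B.map (Subgroup.centralizer ({w} : Set G)).subtype, ?_, ?_, fun d hd hdd => ?_⟩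
    · rintro _ ⟨x, hx, rfl⟩ _ ⟨y, hy, rfl⟩
      exact congrArg Subtype.val (hB x hx y hy)
    · rwa [Subgroup.card_map_of_injective (Subgroup.subtype_injective _)]
    · rw [Subgroup.card_map_of_injective (Subgroup.subtype_injective _)]
      rw [← B.card_mul_index] at hdd
      exact (coprime_of_big_small hd hBs).dvd_of_dvd_mul_right hdd
  refine ⟨A, hAc, hAb, fun q hq hqi => ?_⟩
  by_contra hqN
  have : Fact q.Prime := ⟨hq⟩
  have hqG : q ∣ Nat.card G := hqi.trans A.index_dvd_card
  -- `A` is not trivial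
  obtain ⟨y, hy⟩ := exists_prime_orderOf_dvd_card' (G := G) q hqG
  have hA1 : 1 < Nat.card A := by
    have := hmax' (Subgroup.zpowers y) (fun a ha b hb => by
      obtain ⟨i, rfl⟩ := Subgroup.mem_zpowers_iff.mp ha
      obtain ⟨j, rfl⟩ := Subgroup.mem_zpowers_iff.mp hb
      rw [← zpow_add, ← zpow_add, add_comm]) (by
      rw [Nat.card_zpowers, hy]
      simpa using isBig_prime_pow (k := 1) hq (by omega : N + 1 < q))
    rw [Nat.card_zpowers, hy] at this
    exact lt_of_lt_of_le hq.one_lt this
  -- every prime of `A` has its full Sylow subgroup in `A`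
  have hfull : ∀ r : ℕ, r.Prime → r ∣ Nat.card A →
      ∃ P : Sylow r G, (P : Subgroup G) ≤ A := by
    intro r hr hrA
    have : Fact r.Prime := ⟨hr⟩
    have hrN := hAb r hr hrA
    obtain ⟨w, hw⟩ := exists_prime_orderOf_dvd_card' (G := A) r hrA
    obtain ⟨Q, hQ⟩ := (default : Sylow r A).2.map A.subtype |>.exists_le_sylow
    obtain ⟨k, hk⟩ := IsPGroup.iff_card.mp Q.isPGroup'
    have hwo : orderOf (w : G) = r := by rw [Subgroup.orderOf_coe, hw]
    obtain ⟨A', hA'c, hA'b, hA'd⟩ := hcen w r hr hrN hwo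
    have hAC : A ≤ Subgroup.centralizer ({(w : G)} : Set G) := fun a ha =>
      Subgroup.mem_centralizer_singleton_iff.mpr (hAc a ha w w.2)
    have h1 := hA'd _ hAb (Subgroup.card_dvd_of_le hAC)
    have heq : Nat.card A' = Nat.card A :=
      le_antisymm (hmax' A' hA'c hA'b) (Nat.le_of_dvd Nat.card_pos h1)
    have hwQ : (w : G) ∈ (Q : Subgroup G) := by
      refine hQ ⟨w, ?_, rfl⟩
      -- an element of order `r` of an abelian group lies in its Sylow subgroup
      have hcommA : ∀ a b : A, a * b = b * a := fun a b => Subtype.ext (hAc a a.2 b b.2)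
      have hn : ((default : Sylow r A) : Subgroup A).Normal := ⟨fun n hn g => by
        rwa [hcommA g n, mul_inv_cancel_right]⟩
      have hp : IsPGroup r (Subgroup.zpowers w) :=
        IsPGroup.of_card (n := 1) (by rw [Nat.card_zpowers, hw, pow_one])
      obtain ⟨S, hS⟩ := hp.exists_le_sylow
      have huniq : S = default := by
        obtain ⟨c, hc⟩ := MulAction.exists_smul_eq A (default : Sylow r A) S
        rw [← hc]
        exact Sylow.smul_eq_of_normal
      exact huniq ▸ hS (Subgroup.mem_zpowers w)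
    have hQb : IsBig N (Nat.card Q) := hk ▸ isBig_prime_pow hr hrN
    have hQC : (Q : Subgroup G) ≤ Subgroup.centralizer ({(w : G)} : Set G) := fun a ha =>
      Subgroup.mem_centralizer_singleton_iff.mpr
        (comm_of_big_subgroup _ hQb (IsCharacter_of_isIrrCharacter hχ) hf hN a ha w hwQ)
    have h2 := hA'd _ hQb (Subgroup.card_dvd_of_le hQC)
    rw [heq] at h2
    have hdl : Nat.card Q ∣ Nat.card ((default : Sylow r A) : Subgroup A) := by
      rw [Sylow.card_eq_multiplicity (default : Sylow r A), hk]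
      rw [hk] at h2
      exact Nat.pow_dvd_pow r ((hr.pow_dvd_iff_le_factorization Nat.card_pos.ne').mp h2)
    refine ⟨Q, ?_⟩
    have : ((default : Sylow r A) : Subgroup A).map A.subtype = (Q : Subgroup G) := by
      refine Subgroup.eq_of_le_of_card_ge hQ ?_
      rw [Subgroup.card_map_of_injective A.subtype_injective]
      exact Nat.le_of_dvd Nat.card_pos hdl
    rw [← this]
    exact Subgroup.map_subtype_le _
  have hqA : ¬ q ∣ Nat.card A := by
    intro h
    obtain ⟨P, hP⟩ := hfull q hq h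
    exact P.not_dvd_index (hqi.trans (Subgroup.index_dvd_of_le hP))
  obtain ⟨r, hr, hrA⟩ := Nat.exists_prime_and_dvd (by omega : Nat.card A ≠ 1)
  have : Fact r.Prime := ⟨hr⟩
  have hrN := hAb r hr hrA
  obtain ⟨z, hrz, hqz⟩ := exists_mixed_order hχ hf hr hq (by omega) (by omega)
    (hrA.trans (Subgroup.card_subgroup_dvd_card A)) hqG
  have hz0 : orderOf z ≠ 0 := (orderOf_pos z).ne'
  set u := z ^ (orderOf z / r) with hu
  set v := z ^ (orderOf z / q) with hv
  have huo : orderOf u = r := orderOf_pow_orderOf_div hz0 hrz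
  have hvo : orderOf v = q := orderOf_pow_orderOf_div hz0 hqz
  obtain ⟨P, hP⟩ := hfull r hr hrA
  have hup : IsPGroup r (Subgroup.zpowers u) :=
    IsPGroup.of_card (n := 1) (by rw [Nat.card_zpowers, huo, pow_one])
  obtain ⟨Q, hQ⟩ := hup.exists_le_sylow
  obtain ⟨c, hc⟩ := MulAction.exists_smul_eq G Q P
  have huA : c * u * c⁻¹ ∈ A := hP (by
    rw [← hc, Sylow.coe_subgroup_smul, Subgroup.mem_pointwise_smul_iff_inv_smul_mem]
    simpa [MulAut.smul_def, mul_assoc] using hQ (Subgroup.mem_zpowers u))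
  have huo' : orderOf (c * u * c⁻¹) = r := ((MulAut.conj c).orderOf_eq u).trans huo
  obtain ⟨A', hA'c, hA'b, hA'd⟩ := hcen _ r hr hrN huo'
  have hAC : A ≤ Subgroup.centralizer ({c * u * c⁻¹} : Set G) := fun a ha =>
    Subgroup.mem_centralizer_singleton_iff.mpr (hAc a ha _ huA)
  have hvC : c * v * c⁻¹ ∈ Subgroup.centralizer ({c * u * c⁻¹} : Set G) :=
    Subgroup.mem_centralizer_singleton_iff.mpr
      (((Commute.refl z).pow_pow (orderOf z / q) (orderOf z / r)).map (MulAut.conj c)).eq
  have hd1 := hA'd _ hAb (Subgroup.card_dvd_of_le hAC)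
  have hd2 : q ∣ Nat.card A' := hA'd q (by simpa using isBig_prime_pow (k := 1) hq (by omega : N + 1 < q))
    (((MulAut.conj c).orderOf_eq v).trans hvo ▸ Subgroup.orderOf_dvd_natCard _ hvC)
  have hd3 : Nat.card A * q ∣ Nat.card A' :=
    ((hq.coprime_iff_not_dvd.mpr hqA).symm).mul_dvd_of_dvd_of_dvd hd1 hd2
  have h4 := Nat.le_of_dvd Nat.card_pos hd3
  have h5 := hmax' A' hA'c hA'b
  nlinarith [hq.two_le]

/-- Blichfeldt's theorem. -/
theorem hasBigHall (N : ℕ) : ∀ {G : Type u} [Group G] [Finite G] {χ : G → ℂ},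
    Cfsg.IsCharacter G χ → Faithful χ → Cfsg.charDegree χ ≤ N → HasBigHall N G := by
  suffices H : ∀ (d : ℕ) {G : Type u} [Group G] [Finite G] {χ : G → ℂ}, Nat.card G = d →
      Cfsg.IsCharacter G χ → Faithful χ → Cfsg.charDegree χ ≤ N → HasBigHall N G from
    fun {G} _ _ {χ} => H _ rfl
  intro d
  induction d using Nat.strong_induction_on with
  | _ d ih =>
    intro G _ _ χ hd hχ hf hN
    subst hd
    have IH : ∀ H : Subgroup G, H ≠ ⊤ → HasBigHall N H := fun H h =>
      ih _ (card_lt_of_ne_top h) rfl (isCharacter_comp H.subtype hχ) (faithful_restrict hf H) hN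
    have IHq : ∀ K : Subgroup G, [K.Normal] → K ≠ ⊥ → ∀ φ : G ⧸ K → ℂ,
        Cfsg.IsCharacter (G ⧸ K) φ → Faithful φ → Cfsg.charDegree φ ≤ N →
        HasBigHall N (G ⧸ K) := by
      intro K _ hK φ h1 h2 h3
      refine ih _ ?_ rfl h1 h2 h3
      have h4 := K.index_mul_card
      rw [Subgroup.index] at h4
      have h5 : 1 < Nat.card K := Nat.one_lt_iff_ne_zero_and_ne_one.mpr
        ⟨Nat.card_pos.ne', fun h => hK (Subgroup.eq_bot_of_card_eq K h)⟩
      have h6 : 0 < Nat.card (G ⧸ K) := Nat.card_pos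
      nlinarith
    have hirr : ∀ a : Cfsg.IrrCharacter G, Cfsg.charDegree (a : G → ℂ) ≤ N →
        Cfsg.charDegree (a : G → ℂ) = 1 ∨ HasBigHall N G := by
      intro a ha
      set hac := isCharacter_irr a
      set K := Cfsg.Agent.Lib.Characters.Kernel.charKer hac with hKdef
      have hKn : K.Normal := Cfsg.Agent.Lib.Characters.Kernel.charKer_normal hac
      by_cases hK : K = ⊥
      · right
        have haf : Faithful (a : G → ℂ) := fun g hg =>
          Subgroup.mem_bot.mp (hK ▸ ((Cfsg.Agent.Lib.Characters.Kernel.mem_charKer hac g).mpr hg))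
        by_cases hZ : ∀ q : ℕ, q.Prime → N + 1 < q → ∀ g ∈ Subgroup.center G, orderOf g ≠ q
        · exact hall_centerless a.2 haf ha hZ IH
        -- a central element of big prime order: divide it out after a linear twist
        push Not at hZ
        obtain ⟨q, hq, hqN, z, hz, hzo⟩ := hZ
        have : Fact q.Prime := ⟨hq⟩
        obtain ⟨m, ρ, hρ, hρa⟩ := exists_rep a
        have hm0 := finrank_pos_of_isIrreducible ρ
        have hd : Cfsg.charDegree (a : G → ℂ) = m := by
          have := charDegree_irr a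
          rw [← hρa, Representation.char_one, Nat.cast_inj, Module.finrank_fin_fun] at this
          rw [this, ← hρa]
        rw [Module.finrank_fin_fun] at hm0
        obtain ⟨c, hc⟩ := Cfsg.Agent.Lib.Clifford.Rep.schur ρ (ρ z) fun g => by
          rw [← map_mul, ← map_mul, Subgroup.mem_center_iff.mp hz g]
        have hcq : c ^ q = 1 := by
          have h1 : (ρ z) ^ q = 1 := by rw [← map_pow, ← hzo, pow_orderOf_eq_one, map_one]
          rw [hc, smul_pow, one_pow] at h1
          have hnt : Nontrivial (Fin m → ℂ) := Module.finrank_pos_iff.mp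
            (by rw [Module.finrank_fin_fun]; exact hm0)
          exact smul_left_injective ℂ (one_ne_zero : (1 : Module.End ℂ (Fin m → ℂ)) ≠ 0)
            (h1.trans (one_smul ℂ _).symm)
        obtain ⟨e₀, b, hb, hab⟩ := Nat.exists_eq_pow_mul_and_not_dvd
          (Nat.card_pos (α := G)).ne' q hq.ne_one
        have he₀ : 1 ≤ e₀ := by
          by_contra h
          obtain rfl : e₀ = 0 := by omega
          rw [pow_zero, one_mul] at hab
          exact hb (hab ▸ hzo ▸ orderOf_dvd_natCard z)
        have hmq : (b * m).Coprime (q ^ e₀) := by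
          refine Nat.Coprime.pow_right e₀ (Nat.coprime_comm.mpr (hq.coprime_iff_not_dvd.mpr ?_))
          intro h
          rcases hq.dvd_mul.mp h with h | h
          · exact hb h
          · exact absurd (Nat.le_of_dvd hm0 h) (by omega)
        obtain ⟨y, hy⟩ := Nat.exists_mul_mod_eq_one_of_coprime hmq (Nat.one_lt_pow (by omega) hq.one_lt)
        let det : G →* ℂˣ := MonoidHom.toHomUnits ((LinearMap.det).comp ρ)
        let lam : G →* ℂˣ := det ^ (b * y)
        have hlz : (lam z : ℂ) = c := by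
          show ((det z ^ (b * y) : ℂˣ) : ℂ) = c
          rw [Units.val_pow_eq_pow_val]
          show LinearMap.det (ρ z) ^ (b * y) = c
          rw [hc, LinearMap.det_smul, map_one, mul_one, Module.finrank_fin_fun, ← pow_mul]
          have hmod : m * (b * y) ≡ 1 [MOD q] := by
            have h1 : b * m * y ≡ 1 [MOD q ^ e₀] := by
              show b * m * y % q ^ e₀ = 1 % q ^ e₀
              rw [hy.2, Nat.one_mod_eq_one.mpr (Nat.one_lt_pow (by omega) hq.one_lt).ne']
            have h2 := h1.of_dvd (dvd_pow_self q (by omega))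
            rwa [show m * (b * y) = b * m * y by ring]
          have h3 : orderOf c ∣ q := orderOf_dvd_of_pow_eq_one hcq
          have h4 : IsOfFinOrder c := isOfFinOrder_iff_pow_eq_one.mpr ⟨q, hq.pos, hcq⟩
          calc c ^ (m * (b * y)) = c ^ 1 :=
                h4.pow_eq_pow_iff_modEq.mpr (hmod.of_dvd h3)
            _ = c := pow_one c
        have hlq : ∀ g, (lam g : ℂ) ^ (q ^ e₀) = 1 := by
          intro g
          have h1 : (det g : ℂ) ^ Nat.card G = 1 := by
            rw [← Units.val_pow_eq_pow_val, ← map_pow, pow_card_eq_one', map_one, Units.val_one]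
          show ((det g ^ (b * y) : ℂˣ) : ℂ) ^ (q ^ e₀) = 1
          rw [Units.val_pow_eq_pow_val, ← pow_mul,
            show b * y * q ^ e₀ = Nat.card G * y by rw [hab]; ring, pow_mul, h1, one_pow]
        set ψ : G → ℂ := (linChar lam⁻¹ : G → ℂ) * (a : G → ℂ) with hψdef
        have hψ : Cfsg.IsCharacter G ψ := isCharacter_mul (isCharacter_irr _) hac
        have hψ1 : ψ 1 = (a : G → ℂ) 1 := by simp [hψdef, linChar_apply]
        have hψd : Cfsg.charDegree ψ = m := by rw [← hd, Cfsg.charDegree, hψ1]; rfl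
        set L := Cfsg.Agent.Lib.Characters.Kernel.charKer hψ with hLdef
        have hLn : L.Normal := Cfsg.Agent.Lib.Characters.Kernel.charKer_normal hψ
        have hzL : z ∈ L := by
          show ψ z = ψ 1
          have h1 : (a : G → ℂ) z = c * m := by
            rw [← hρa, Representation.character, hc, map_smul, LinearMap.trace_one,
              Module.finrank_fin_fun, smul_eq_mul]
          rw [hψ1, hψdef, Pi.mul_apply, linChar_apply, h1, MonoidHom.inv_apply,
            Units.val_inv_eq_inv_val, hlz, charDegree_irr a, hd, ← mul_assoc, inv_mul_cancel₀ ?_,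
            one_mul]
          rintro rfl
          rw [zero_pow hq.ne_zero] at hcq
          exact zero_ne_one hcq
        have hLbot : L ≠ ⊥ := fun h => by
          have := Subgroup.mem_bot.mp (h ▸ hzL)
          rw [this, orderOf_one] at hzo
          exact hq.ne_one hzo.symm
        have hLpow : ∀ g ∈ L, g ^ (q ^ e₀) = 1 := by
          intro g hg
          have hg' : ψ g = ψ 1 := hg
          rw [hψ1, hψdef, Pi.mul_apply, linChar_apply, MonoidHom.inv_apply,
            Units.val_inv_eq_inv_val, inv_mul_eq_iff_eq_mul₀ (lam g).ne_zero] at hg'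
          have hag : (a : G → ℂ) g = (lam g : ℂ) * m := by rw [hg', charDegree_irr a, hd]
          have hnorm : ‖ρ.character g‖ = (Module.finrank ℂ (Fin m → ℂ) : ℝ) := by
            rw [hρa, hag, norm_mul, Complex.norm_natCast, Module.finrank_fin_fun,
              Complex.norm_eq_one_of_pow_eq_one (hlq g) (pow_ne_zero _ hq.ne_zero), one_mul]
          obtain ⟨ω, hω⟩ := Cfsg.Agent.Lib.Characters.Diag.exists_smul_of_norm_char_eq ρ g hnorm
          have hωl : ω = (lam g : ℂ) := by
            have h1 : (a : G → ℂ) g = ω * m := by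
              rw [← hρa, Representation.character, hω, map_smul, LinearMap.trace_id,
                Module.finrank_fin_fun, smul_eq_mul]
            rw [hag] at h1
            exact (mul_right_cancel₀ (Nat.cast_ne_zero.mpr hm0.ne') h1).symm
          refine haf _ ?_
          rw [← hρa]
          show LinearMap.trace ℂ _ (ρ (g ^ (q ^ e₀))) = LinearMap.trace ℂ _ (ρ 1)
          rw [map_pow, hω, hωl, map_one, ← Module.End.one_eq_id, smul_pow, one_pow, hlq, one_smul]
        obtain ⟨φ, hφc, hφ, -⟩ :=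
          Cfsg.Agent.Lib.Characters.Kernel.exists_descend L hψ fun g hg => hg
        have hφd : Cfsg.charDegree φ = Cfsg.charDegree ψ := by
          rw [Cfsg.charDegree, Cfsg.charDegree, ← hφ]; simp
        have hφf : Faithful φ := by
          intro x hx
          obtain ⟨g, rfl⟩ := QuotientGroup.mk'_surjective L x
          refine (QuotientGroup.eq_one_iff g).mpr ?_
          show ψ g = ψ 1
          rw [← hφ]
          simpa using hx
        obtain ⟨B, -, hBb, hBs⟩ := IHq L hLbot φ hφc hφf (by omega)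
        refine hall_step L IH B hBs fun htop => ?_
        refine hasBigHall_of_comm (comm_of_big (N := N) ?_ hχ hf hN)
        rw [← L.index_mul_card, Subgroup.index]
        refine IsBig.mul (by rw [htop, Subgroup.card_top] at hBb; exact hBb) fun r hr hrd => ?_
        have : Fact r.Prime := ⟨hr⟩
        obtain ⟨g, hg⟩ := exists_prime_orderOf_dvd_card' (G := L) r hrd
        have h1 : orderOf (g : G) ∣ q ^ e₀ := orderOf_dvd_of_pow_eq_one (hLpow g g.2)
        rw [Subgroup.orderOf_coe, hg] at h1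
        exact isBig_prime_pow hq hqN r hr h1
      · obtain ⟨φ, hφc, hφ, hφi⟩ :=
          Cfsg.Agent.Lib.Characters.Kernel.exists_descend K hac fun g hg => hg
        have hφd : Cfsg.charDegree φ = Cfsg.charDegree (a : G → ℂ) := by
          rw [Cfsg.charDegree, Cfsg.charDegree, ← hφ]; simp
        have hφf : Faithful φ := by
          intro x hx
          obtain ⟨g, rfl⟩ := QuotientGroup.mk'_surjective K x
          refine (QuotientGroup.eq_one_iff g).mpr ?_
          show (a : G → ℂ) g = (a : G → ℂ) 1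
          rw [← hφ]
          simpa using hx
        obtain ⟨B, -, hBb, hBs⟩ := IHq K hK φ hφc hφf (by omega)
        by_cases hB : B = ⊤
        · left
          by_contra hne
          obtain ⟨r, hr, hrd⟩ := Nat.exists_prime_and_dvd hne
          have h1 : r ∣ Nat.card (G ⧸ K) := by
            refine hrd.trans ?_
            rw [← hφd]
            exact charDegree_dvd (⟨φ, hφi a.2⟩ : Cfsg.IrrCharacter (G ⧸ K))
          rw [hB, Subgroup.card_top] at hBb
          have := hBb r hr h1
          have := Nat.le_of_dvd (charDegree_pos a) hrd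
          omega
        · exact Or.inr (hall_step K IH B hBs fun h => absurd h hB)
    obtain ⟨m, hdeg, hker⟩ := exists_constituent hχ
    by_cases hlin : ∀ a ∈ m, Cfsg.charDegree (a : G → ℂ) = 1
    · refine hasBigHall_of_comm fun x y => ?_
      rw [← commutatorElement_eq_one_iff_mul_comm]
      refine hf _ (hker _ fun c hc => ?_)
      have h1' : (c : G → ℂ) 1 = 1 := by rw [charDegree_irr, hlin c hc, Nat.cast_one]
      rw [h1', ← degOneHom_apply (isCharacter_irr c) h1', map_commutatorElement,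
        commutatorElement_eq_one_iff_mul_comm.mpr (mul_comm _ _), Units.val_one]
    · push Not at hlin
      obtain ⟨a, ha, hne⟩ := hlin
      exact (hirr a ((hdeg a ha).trans hN)).resolve_left hne

end Cfsg.Agent.Lib.DegreeBounds.Blichfeldt
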