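import Cfsg.Agent.Lib.DegreeBounds.Blichfeldt
import Cfsg.Agent.Lib.Induced.Monomial
import Mathlib.NumberTheory.PrimeCounting
import Mathlib.Analysis.InnerProductSpace.PiL2
import Mathlib.Analysis.SpecialFunctions.Trigonometric.Basic
import Mathlib.Analysis.SpecialFunctions.Complex.Arg
import Mathlib.GroupTheory.Nilpotent

/-!
# Frobenius' lemma on elements with spectrum in a short arc, and Jordan's bound
-/

namespace Cfsg.Agent.Lib.DegreeBounds.Jordan

open scoped ComplexConjugate commutatorElement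
open Cfsg.Agent.Lib.Induced.Basic Cfsg.Agent.Lib.Characters.Basic
open Cfsg.Agent.Lib.Characters.Complete Cfsg.Agent.Lib.Characters.Linear
open Cfsg.Agent.Lib.DegreeBounds.Basic Cfsg.Agent.Lib.DegreeBounds.Blichfeldt

universe u

variable {G : Type u} [Group G]

/-! ## An invariant Euclidean norm -/

section norm

variable [Fintype G] {m : ℕ} (ρ : Representation ℂ G (Fin m → ℂ))

/-- The orbit embedding into a Euclidean space. -/
noncomputable def orbitEmb : (Fin m → ℂ) →ₗ[ℂ] EuclideanSpace ℂ (G × Fin m) :=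
  (WithLp.linearEquiv 2 ℂ (G × Fin m → ℂ)).symm.toLinearMap ∘ₗ
    LinearMap.pi fun p => (LinearMap.proj p.2) ∘ₗ ρ p.1

theorem orbitEmb_apply (v : Fin m → ℂ) (g : G) (i : Fin m) :
    orbitEmb ρ v (g, i) = ρ g v i := rfl

theorem inner_invariant (h : G) (u v : Fin m → ℂ) :
    inner ℂ (orbitEmb ρ (ρ h u)) (orbitEmb ρ (ρ h v)) = inner ℂ (orbitEmb ρ u) (orbitEmb ρ v) := by
  simp only [PiLp.inner_apply]
  refine Fintype.sum_equiv ((Equiv.mulRight h).prodCongr (Equiv.refl _)) _ _ fun p => ?_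
  obtain ⟨g, i⟩ := p
  simp [orbitEmb_apply, map_mul]

theorem norm_invariant (h : G) (v : Fin m → ℂ) :
    ‖orbitEmb ρ (ρ h v)‖ = ‖orbitEmb ρ v‖ := by
  rw [norm_eq_sqrt_re_inner (𝕜 := ℂ), norm_eq_sqrt_re_inner (𝕜 := ℂ), inner_invariant]

theorem orbitEmb_injective : Function.Injective (orbitEmb ρ) := by
  intro u v h
  funext i
  have := congrArg (fun x : EuclideanSpace ℂ (G × Fin m) => x (1, i)) h
  simpa [orbitEmb_apply] using this

/-- `g` moves every vector less than `r` away from the multiple by `a`. -/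
def Close (g : G) (a : ℂ) (r : ℝ) : Prop :=
  ∀ v : Fin m → ℂ, ‖orbitEmb ρ (ρ g v - a • v)‖ ≤ r * ‖orbitEmb ρ v‖

/-- Elements that are close to a scalar. -/
def Sharp (g : G) : Prop := ∃ (a : ℂ) (r : ℝ), 0 ≤ r ∧ r < 1 / 2 ∧ Close ρ g a r

theorem close_commutator {x w : G} {a b : ℂ} {r s : ℝ} (hx : Close ρ x a r) (hw : Close ρ w b s)
    (hr : 0 ≤ r) (hs : 0 ≤ s) : Close ρ ⁅x, w⁆ 1 (2 * r * s) := by
  intro v
  set u := ρ (x⁻¹ * w⁻¹) v with hu
  have hv : v = ρ (w * x) u := by
    rw [hu, ← Module.End.mul_apply, ← map_mul]; simp [mul_assoc]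
  have hc : ρ ⁅x, w⁆ v = ρ (x * w) u := by
    rw [hu, ← Module.End.mul_apply, ← map_mul, commutatorElement_def]
    simp [mul_assoc]
  have hn : ‖orbitEmb ρ u‖ = ‖orbitEmb ρ v‖ := norm_invariant ρ _ v
  have key : ρ (x * w) u - ρ (w * x) u =
      (ρ x (ρ w u - b • u) - a • (ρ w u - b • u)) - (ρ w (ρ x u - a • u) - b • (ρ x u - a • u)) := by
    simp only [map_mul, Module.End.mul_apply, map_sub, map_smul, smul_sub, smul_smul, mul_comm a b]
    abel
  rw [one_smul, hc]
  conv_lhs => rw [hv, key, map_sub]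
  refine (norm_sub_le _ _).trans ?_
  have h1 := (hx (ρ w u - b • u)).trans (mul_le_mul_of_nonneg_left (hw u) hr)
  have h2 := (hw (ρ x u - a • u)).trans (mul_le_mul_of_nonneg_left (hx u) hs)
  rw [← hn]
  linarith

theorem close_conj {x : G} {a : ℂ} {r : ℝ} (hx : Close ρ x a r) (c : G) :
    Close ρ (c * x * c⁻¹) a r := by
  intro v
  have h : ρ (c * x * c⁻¹) v - a • v = ρ c (ρ x (ρ c⁻¹ v) - a • ρ c⁻¹ v) := by
    rw [map_sub, map_smul]
    simp only [← Module.End.mul_apply, ← map_mul]
    simp [mul_assoc]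
  rw [h, norm_invariant]
  exact (hx _).trans_eq (by rw [norm_invariant])

theorem inner_eigen {x : G} {μ ν : ℂ} {u v : Fin m → ℂ} (hμ : conj μ * μ = 1)
    (hu : ρ x u = μ • u) (hv : ρ x v = ν • v) (hne : μ ≠ ν) :
    inner ℂ (orbitEmb ρ u) (orbitEmb ρ v) = 0 := by
  have h := inner_invariant ρ x u v
  rw [hu, hv, map_smul, map_smul, inner_smul_left, inner_smul_right, ← mul_assoc] at h
  by_contra h0
  have h1 : conj μ * ν = 1 := (mul_eq_right₀ h0).mp h
  exact hne (mul_left_cancel₀ (left_ne_zero_of_mul_eq_one hμ) (hμ.trans h1.symm))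

theorem conj_mul_self_of_pow {z : ℂ} {N : ℕ} (hN : N ≠ 0) (hz : z ^ N = 1) : conj z * z = 1 := by
  rw [Cfsg.Agent.Lib.Characters.Diag.conj_eq_inv_of_pow hN hz]
  exact inv_mul_cancel₀ fun h => by rw [h, zero_pow hN] at hz; exact zero_ne_one hz

/-- Eigenvalues within `r` of `a` give closeness. -/
theorem close_of_eigen (x : G) (a : ℂ) (r : ℝ)
    {ι : Type} [Fintype ι] (b : Module.Basis ι ℂ (Fin m → ℂ)) (ζ : ι → ℂ)
    (hb : ∀ i, ρ x (b i) = ζ i • b i) (hu : ∀ i, conj (ζ i) * ζ i = 1)
    (hr : 0 ≤ r) (hζ : ∀ i, ‖ζ i - a‖ ≤ r) : Close ρ x a r := by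
  classical
  intro v
  set part : ℂ → (Fin m → ℂ) := fun μ =>
    ∑ i ∈ Finset.univ.filter (fun i => ζ i = μ), b.repr v i • b i with hpart
  set T := Finset.univ.image ζ
  have hsum : ∑ μ ∈ T, part μ = v := by
    rw [Finset.sum_fiberwise_of_maps_to (fun i _ => Finset.mem_image_of_mem ζ (Finset.mem_univ i))]
    exact b.sum_repr v
  have hact : ∀ μ, ρ x (part μ) = μ • part μ := by
    intro μ
    rw [hpart, map_sum, Finset.smul_sum]
    refine Finset.sum_congr rfl fun i hi => ?_
    rw [map_smul, hb, (Finset.mem_filter.mp hi).2, smul_comm]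
  have horth : ∀ μ ∈ T, ∀ ν ∈ T, μ ≠ ν →
      inner ℂ (orbitEmb ρ (part μ)) (orbitEmb ρ (part ν)) = 0 := by
    intro μ hμ ν _ hne
    obtain ⟨i, -, rfl⟩ := Finset.mem_image.mp hμ
    exact inner_eigen ρ (hu i) (hact _) (hact _) hne
  have hpyth : ∀ c : ℂ → ℂ, ∀ T' : Finset ℂ, T' ⊆ T →
      ‖∑ μ ∈ T', c μ • orbitEmb ρ (part μ)‖ ^ 2 =
        ∑ μ ∈ T', ‖c μ‖ ^ 2 * ‖orbitEmb ρ (part μ)‖ ^ 2 := by
    intro c T'
    induction T' using Finset.induction_on with
    | empty => simp
    | insert μ s hμ ih =>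
      intro hsub
      rw [Finset.insert_subset_iff] at hsub
      rw [Finset.sum_insert hμ, Finset.sum_insert hμ, ← ih hsub.2, sq, sq, sq, sq,
        norm_add_sq_eq_norm_sq_add_norm_sq_of_inner_eq_zero (𝕜 := ℂ)
          (c μ • orbitEmb ρ (part μ)) (∑ ν ∈ s, c ν • orbitEmb ρ (part ν)) ?_, norm_smul]
      · ring
      · rw [inner_sum]
        refine Finset.sum_eq_zero fun ν hν => ?_
        rw [inner_smul_left, inner_smul_right,
          horth μ hsub.1 ν (hsub.2 hν) (fun h => hμ (h ▸ hν)), mul_zero, mul_zero]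
  have hL : orbitEmb ρ (ρ x v - a • v) = ∑ μ ∈ T, (μ - a) • orbitEmb ρ (part μ) := by
    conv_lhs => rw [← hsum]
    simp only [map_sum, map_sub, map_smul, hact, Finset.smul_sum, sub_smul, Finset.sum_sub_distrib]
  have hR : orbitEmb ρ v = ∑ μ ∈ T, (1 : ℂ) • orbitEmb ρ (part μ) := by
    conv_lhs => rw [← hsum]
    simp [map_sum]
  have h1 := hpyth (fun μ => μ - a) T subset_rfl
  have h2 := hpyth (fun _ => 1) T subset_rfl
  simp only [norm_one, one_pow, one_mul] at h2
  rw [← hR] at h2
  rw [← hL] at h1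
  have h3 : ‖orbitEmb ρ (ρ x v - a • v)‖ ^ 2 ≤ (r * ‖orbitEmb ρ v‖) ^ 2 := by
    rw [h1, mul_pow, h2, Finset.mul_sum]
    refine Finset.sum_le_sum fun μ hμ => ?_
    obtain ⟨i, -, rfl⟩ := Finset.mem_image.mp hμ
    gcongr
    exact hζ i
  exact le_of_pow_le_pow_left₀ two_ne_zero (mul_nonneg hr (norm_nonneg _)) h3

/-- An element commuting with its commutator with a sharp element commutes with that element. -/
theorem commute_of_commute_commutator (hinj : ∀ g : G, ρ g = 1 → g = 1) {x w : G}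
    (hw : Sharp ρ w) (h : Commute x ⁅x, w⁆) : Commute x w := by
  obtain ⟨b, s, hs0, hs, hclose⟩ := hw
  set x' := w * x * w⁻¹ with hx'
  have hxx' : Commute x x' := by
    have h1 : x * (w * x⁻¹ * w⁻¹) = (w * x⁻¹ * w⁻¹) * x := by
      apply mul_left_cancel (a := x)
      have h0 : x * ⁅x, w⁆ = ⁅x, w⁆ * x := h
      rw [commutatorElement_def] at h0
      simpa [mul_assoc] using h0
    have h2 : Commute x x'⁻¹ := by
      show x * x'⁻¹ = x'⁻¹ * x
      simpa [hx', mul_assoc] using h1
    exact Commute.inv_right_iff.mp h2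
  obtain ⟨ι, hι, B, μ, hB, -, -⟩ :=
    Cfsg.Agent.Lib.Characters.Diag.exists_eigenbasis_card ρ x
  have heq : ρ x' = ρ x := B.ext fun i => by
    set v := B i
    set z := ρ x' v - μ i • v with hz
    have hu1 := conj_mul_self_of_pow Nat.card_pos.ne' (hB i).2
    have hzU : ρ x z = μ i • z := by
      rw [hz, map_sub, map_smul, ← Module.End.mul_apply, ← map_mul, hxx'.eq, map_mul,
        Module.End.mul_apply, (hB i).1, map_smul, smul_sub]
    have hwz : ρ x' (ρ w z) = μ i • ρ w z := by
      rw [← Module.End.mul_apply, ← map_mul, hx', inv_mul_cancel_right, map_mul,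
        Module.End.mul_apply, hzU, map_smul]
    have horth : inner ℂ (orbitEmb ρ z) (orbitEmb ρ (ρ w z)) = 0 := by
      have h1 := inner_invariant ρ x' v (ρ w z)
      rw [hwz, map_smul, inner_smul_right] at h1
      rw [hz, map_sub, map_smul, inner_sub_left, inner_smul_left, sub_eq_zero, ← h1,
        ← mul_assoc, hu1, one_mul]
    have hz0 : orbitEmb ρ z = 0 := by
      by_contra hne
      have hp : 0 < ‖orbitEmb ρ z‖ := norm_pos_iff.mpr hne
      have h1 := hclose z
      rw [map_sub, map_smul] at h1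
      have h2 := norm_sub_sq (𝕜 := ℂ) (orbitEmb ρ (ρ w z)) (b • orbitEmb ρ z)
      have h3 : inner ℂ (orbitEmb ρ (ρ w z)) (b • orbitEmb ρ z) = (0 : ℂ) := by
        rw [inner_smul_right, inner_eq_zero_symm.mp horth, mul_zero]
      rw [h3, map_zero, mul_zero, sub_zero, norm_invariant] at h2
      have h4 := pow_le_pow_left₀ (norm_nonneg _) h1 2
      rw [h2, mul_pow] at h4
      have h5 := mul_lt_mul_of_pos_right (show s ^ 2 < 1 by nlinarith) (pow_pos hp 2)
      nlinarith [sq_nonneg (‖b • orbitEmb ρ z‖)]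
    have : z = 0 := orbitEmb_injective ρ (by rw [hz0, map_zero])
    rw [(hB i).1]
    exact sub_eq_zero.mp this
  have h1 : x' * x⁻¹ = 1 := hinj _ (by
    rw [map_mul, heq, ← map_mul, mul_inv_cancel, map_one])
  have h2 : x' = x := mul_inv_eq_one.mp h1
  exact (mul_inv_eq_iff_eq_mul.mp (hx' ▸ h2 : w * x * w⁻¹ = x)).symm

/-- Frobenius: two sharp elements of a faithful linear group commute. -/
theorem commute_of_sharp (hinj : ∀ g : G, ρ g = 1 → g = 1) {x y : G} (hx : Sharp ρ x)
    (hy : Sharp ρ y) : Commute x y := by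
  classical
  obtain ⟨a, r, hr0, hr, hxc⟩ := hx
  set y' : ℕ → G := fun k => (fun w => ⁅x, w⁆)^[k] y with hy'
  have hstep : ∀ k, y' (k + 1) = ⁅x, y' k⁆ := fun k => Function.iterate_succ_apply' _ _ _
  obtain ⟨b, s, hs0, hs, hyc⟩ := hy
  have h2r : (2 * r) < 1 := by linarith
  have hbound : ∀ k, Close ρ (y' (k + 1)) 1 ((2 * r) ^ (k + 1) * s) := by
    intro k
    induction k with
    | zero =>
      rw [hstep, pow_one]
      exact close_commutator ρ hxc hyc hr0 hs0
    | succ k ih =>
      rw [hstep, pow_succ', mul_assoc]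
      exact close_commutator ρ hxc ih hr0 (by positivity)
  have hsharp : ∀ k, Sharp ρ (y' k) := by
    intro k
    rcases k with _ | k
    · exact ⟨b, s, hs0, hs, hyc⟩
    · refine ⟨1, _, by positivity, ?_, hbound k⟩
      calc (2 * r) ^ (k + 1) * s ≤ 1 * s := by
            gcongr
            exact pow_le_one₀ (by positivity) h2r.le
        _ < 1 / 2 := by linarith
  have hsep : ∀ h : G, h ≠ 1 → ∃ K : ℕ, ∀ k, K ≤ k → ¬ Close ρ h 1 ((2 * r) ^ (k + 1) * s) := by
    intro h hh
    obtain ⟨v, hv⟩ : ∃ v, ρ h v ≠ v := by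
      by_contra hall
      push Not at hall
      exact hh (hinj h (LinearMap.ext hall))
    have h1 : 0 < ‖orbitEmb ρ (ρ h v - v)‖ := norm_pos_iff.mpr fun h0 =>
      hv (sub_eq_zero.mp (orbitEmb_injective ρ (by rw [h0, map_zero])))
    have hvpos : 0 < ‖orbitEmb ρ v‖ := by
      refine norm_pos_iff.mpr fun h0 => hv ?_
      have hv0 : v = 0 := orbitEmb_injective ρ (by rw [h0, map_zero])
      rw [hv0, map_zero]
    obtain ⟨K, hK⟩ := exists_pow_lt_of_lt_one (div_pos h1 hvpos) h2r
    refine ⟨K, fun k hk hclose => ?_⟩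
    have h2 := hclose v
    rw [one_smul] at h2
    have h3 : (2 * r) ^ (k + 1) * s ≤ (2 * r) ^ K := by
      calc (2 * r) ^ (k + 1) * s ≤ (2 * r) ^ (k + 1) * 1 := by gcongr; linarith
        _ ≤ (2 * r) ^ K := by
          rw [mul_one]
          exact pow_le_pow_of_le_one (by positivity) h2r.le (by omega)
    rw [lt_div_iff₀ hvpos] at hK
    have h4 := mul_le_mul_of_nonneg_right h3 hvpos.le
    linarith
  choose K hK using hsep
  set M := (Finset.univ : Finset {h : G // h ≠ 1}).sup fun h => K h.1 h.2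
  have hM : y' (M + 1) = 1 := by
    by_contra hne
    exact hK _ hne M (Finset.le_sup (f := fun h : {h : G // h ≠ 1} => K h.1 h.2)
      (Finset.mem_univ (⟨_, hne⟩ : {h : G // h ≠ 1}))) (hbound M)
  have hdown : y' 1 = 1 := by
    have : ∀ k, y' (k + 1) = 1 → y' 1 = 1 := by
      intro k
      induction k with
      | zero => exact id
      | succ k ih =>
        intro hk
        refine ih ?_
        rw [hstep] at hk
        have hc : Commute x (y' (k + 1)) := commutatorElement_eq_one_iff_commute.mp hk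
        rw [hstep] at hc ⊢
        exact commutatorElement_eq_one_iff_commute.mpr
          (commute_of_commute_commutator ρ hinj (hsharp k) hc)
    exact this M hM
  exact commutatorElement_eq_one_iff_commute.mp hdown

end norm

/-! ## Abelian subgroups of small index -/

/-- A linear group of prime power order has an abelian subgroup of index dividing `n!`. -/
theorem exists_abelian_pgroup [Finite G] [Group.IsNilpotent G] {χ : G → ℂ}
    (hχ : Cfsg.IsCharacter G χ) (hf : Faithful χ) :
    ∃ A : Subgroup G, (∀ a ∈ A, ∀ b ∈ A, a * b = b * a) ∧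
      A.index ∣ (Cfsg.charDegree χ).factorial := by
  classical
  have := Fintype.ofFinite G
  obtain ⟨m, rfl⟩ := exists_multiset_sum hχ
  have hval : ∀ g : G, (m.map fun a : Cfsg.IrrCharacter G => (a : G → ℂ)).sum g =
      (m.map fun a : Cfsg.IrrCharacter G => (a : G → ℂ) g).sum := by
    intro g
    refine Multiset.induction_on m (by simp) ?_
    intro a s ih
    simp [ih]
  choose H lam hlam using fun a : Cfsg.IrrCharacter G =>
    Cfsg.Agent.Lib.Induced.Monomial.exists_linear_of_nilpotent a.2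
  have hdeg : ∀ a : Cfsg.IrrCharacter G, Cfsg.charDegree (a : G → ℂ) = (H a).index := by
    intro a
    have h := charDegree_irr a
    conv_lhs at h => rw [hlam a, indFun_one, map_one, Units.val_one, mul_one]
    exact_mod_cast h.symm
  let core : Multiset (Cfsg.IrrCharacter G) → Subgroup G := fun s =>
    (s.map fun a => (H a).normalCore).inf
  have hcore : ∀ s, core s ≤ ⊤ ∧ (core s).Normal ∧
      (core s).index ∣ ((s.map fun a => (H a).index).sum).factorial := by
    intro s
    refine Multiset.induction_on s ?_ ?_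
    · simp only [core, Multiset.map_zero, Multiset.inf_zero, Subgroup.index_top]
      exact ⟨le_top, inferInstance, one_dvd _⟩
    · intro a s ⟨_, hn, hd⟩
      simp only [core, Multiset.map_cons, Multiset.inf_cons, Multiset.sum_cons]
      have hn' : ((s.map fun a => (H a).normalCore).inf).Normal := hn
      refine ⟨le_top, inferInstance, ?_⟩
      have h1 : (H a).normalCore.index ∣ (H a).index.factorial := by
        rw [Subgroup.normalCore_eq_ker, Subgroup.index_ker, Subgroup.index,
          ← Nat.card_perm]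
        exact Subgroup.card_subgroup_dvd_card _
      refine dvd_trans ?_ ((mul_dvd_mul h1 hd).trans (Nat.factorial_mul_factorial_dvd_factorial_add _ _))
      rw [← Subgroup.relIndex_mul_index
        (inf_le_right : (H a).normalCore ⊓ (s.map fun a => (H a).normalCore).inf ≤ _),
        Subgroup.inf_relIndex_right]
      exact mul_dvd_mul (Subgroup.relIndex_dvd_index_of_normal _ _) dvd_rfl
  refine ⟨core m, fun a ha b hb => ?_, ?_⟩
  · rw [← commutatorElement_eq_one_iff_mul_comm]
    refine hf _ ?_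
    rw [hval, hval 1]
    refine congrArg Multiset.sum (Multiset.map_congr rfl fun c hc => ?_)
    have hle : core m ≤ (H c).normalCore := Multiset.inf_le (Multiset.mem_map_of_mem _ hc)
    rw [hlam c]
    simp only [Cfsg.indFun]
    congr 1
    refine Finset.sum_congr rfl fun x _ => ?_
    have hmem : ∀ z ∈ core m, x⁻¹ * z * x ∈ H c := fun z hz => by
      have := hle hz x⁻¹
      rwa [inv_inv] at this
    have hcomm : x⁻¹ * ⁅a, b⁆ * x = ((⁅(⟨_, hmem a ha⟩ : H c), ⟨_, hmem b hb⟩⁆ : H c) : G) := by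
      simp [commutatorElement_def, mul_assoc]
    rw [hcomm, extendByZero_coe, map_commutatorElement,
      commutatorElement_eq_one_iff_mul_comm.mpr (mul_comm _ _)]
    rw [mul_one, inv_mul_cancel, extendByZero_of_mem _ _ (H c).one_mem]
    show ((1 : ℂˣ) : ℂ) = (lam c ⟨1, _⟩ : ℂ)
    rw [show (⟨1, (H c).one_mem⟩ : H c) = 1 from rfl, map_one]
  · have h : Cfsg.charDegree (m.map fun a : Cfsg.IrrCharacter G => (a : G → ℂ)).sum =
        (m.map fun a => (H a).index).sum := by
      have h1 := hval 1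
      rw [charDegree_cast hχ] at h1
      simp only [charDegree_irr, hdeg] at h1
      rw [← Nat.cast_inj (R := ℂ), h1, Nat.cast_multiset_sum, Multiset.map_map]
      rfl
    rw [h]
    exact (hcore m).2.2

theorem prod_prime_pow_dvd {T : Finset ℕ} {N : ℕ} (hT : ∀ r ∈ T, r.Prime) (f : ℕ → ℕ)
    (h : ∀ r ∈ T, r ^ f r ∣ N) : ∏ r ∈ T, r ^ f r ∣ N := by
  induction T using Finset.induction_on with
  | empty => simp
  | insert a s ha ih =>
    rw [Finset.prod_insert ha]
    refine Nat.Coprime.mul_dvd_of_dvd_of_dvd (Nat.Coprime.prod_right fun b hb => ?_)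
      (h a (Finset.mem_insert_self _ _))
      (ih (fun r hr => hT r (Finset.mem_insert_of_mem hr)) fun r hr => h r (Finset.mem_insert_of_mem hr))
    exact ((Nat.coprime_primes (hT a (Finset.mem_insert_self _ _))
      (hT b (Finset.mem_insert_of_mem hb))).mpr fun e => ha (e ▸ hb)).pow _ _

/-- Twelve boxes on the circle. -/
noncomputable def box (z : ℂ) : Fin 12 :=
  if h : ⌈6 * (Complex.arg z + Real.pi) / Real.pi⌉₊ - 1 < 12 then
    ⟨⌈6 * (Complex.arg z + Real.pi) / Real.pi⌉₊ - 1, h⟩ else 0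

theorem norm_sub_lt_of_box {z w : ℂ} (hz : ‖z‖ = 1) (hw : ‖w‖ = 1) (h : box z = box w) :
    ‖z * conj w - (Real.sqrt 3 / 2 : ℝ)‖ < 1 / 2 := by
  have hpi := Real.pi_pos
  set a := 6 * (Complex.arg z + Real.pi) / Real.pi with ha
  set b := 6 * (Complex.arg w + Real.pi) / Real.pi with hb
  have hrange : ∀ y : ℂ, 0 < 6 * (Complex.arg y + Real.pi) / Real.pi ∧
      6 * (Complex.arg y + Real.pi) / Real.pi ≤ (12 : ℕ) := by
    intro y
    have h1 := Complex.neg_pi_lt_arg y
    have h2 := Complex.arg_le_pi y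
    refine ⟨div_pos (by linarith) hpi, ?_⟩
    rw [div_le_iff₀ hpi]
    push_cast
    linarith
  have hca : ⌈a⌉₊ ≤ 12 := Nat.ceil_le.mpr (hrange z).2
  have hcb : ⌈b⌉₊ ≤ 12 := Nat.ceil_le.mpr (hrange w).2
  have ha1 : 1 ≤ ⌈a⌉₊ := Nat.ceil_pos.mpr (hrange z).1
  have hb1 : 1 ≤ ⌈b⌉₊ := Nat.ceil_pos.mpr (hrange w).1
  have heq : ⌈a⌉₊ = ⌈b⌉₊ := by
    simp only [box, ← ha, ← hb] at h
    rw [dif_pos (by omega), dif_pos (by omega)] at h
    have h' := congrArg Fin.val h
    simp only at h'
    omega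
  have h1 := Nat.ceil_lt_add_one (hrange z).1.le
  have h2 := Nat.ceil_lt_add_one (hrange w).1.le
  have h3 := Nat.le_ceil a
  have h4 := Nat.le_ceil b
  rw [← ha] at h1
  rw [← hb] at h2
  have heq' : (⌈a⌉₊ : ℝ) = (⌈b⌉₊ : ℝ) := by exact_mod_cast heq
  set θ := Complex.arg z - Complex.arg w with hθdef
  have hθ : |θ| < Real.pi / 6 := by
    have hd : a - b = 6 * θ / Real.pi := by rw [ha, hb, hθdef]; ring
    have hab1 : a - b < 1 := by linarith
    have hab2 : -1 < a - b := by linarith
    rw [hd, div_lt_iff₀ hpi] at hab1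
    rw [hd, lt_div_iff₀ hpi] at hab2
    rw [abs_lt]
    constructor <;> linarith
  have hcos : Real.sqrt 3 / 2 < Real.cos θ := by
    rw [← Real.cos_pi_div_six, ← Real.cos_abs θ]
    exact Real.cos_lt_cos_of_nonneg_of_le_pi (abs_nonneg _) (by linarith) hθ
  have hre : (z * conj w).re = Real.cos θ := by
    have hz1 := Complex.cos_arg (norm_ne_zero_iff.mp (by rw [hz]; norm_num : ‖z‖ ≠ 0))
    have hw1 := Complex.cos_arg (norm_ne_zero_iff.mp (by rw [hw]; norm_num : ‖w‖ ≠ 0))
    have hz2 := Complex.sin_arg z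
    have hw2 := Complex.sin_arg w
    rw [hz, div_one] at hz1 hz2
    rw [hw, div_one] at hw1 hw2
    rw [hθdef, Real.cos_sub, hz1, hw1, hz2, hw2]
    simp [Complex.mul_re]
  have hn : ‖z * conj w‖ = 1 := by rw [norm_mul, Complex.norm_conj, hz, hw, one_mul]
  have h5 : ‖z * conj w - (Real.sqrt 3 / 2 : ℝ)‖ ^ 2 < (1 / 2) ^ 2 := by
    have e : ‖z * conj w - (Real.sqrt 3 / 2 : ℝ)‖ ^ 2 =
        ‖z * conj w‖ ^ 2 - 2 * (Real.sqrt 3 / 2) * (z * conj w).re + (Real.sqrt 3 / 2) ^ 2 := by
      rw [← Complex.normSq_eq_norm_sq, ← Complex.normSq_eq_norm_sq, Complex.normSq_apply,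
        Complex.normSq_apply]
      simp only [Complex.sub_re, Complex.sub_im, Complex.ofReal_re, Complex.ofReal_im]
      ring
    rw [e, hn, hre]
    have hs : Real.sqrt 3 * Real.sqrt 3 = 3 := Real.mul_self_sqrt (by norm_num)
    have hs0 : 0 < Real.sqrt 3 := Real.sqrt_pos.mpr (by norm_num)
    nlinarith
  exact lt_of_pow_lt_pow_left₀ 2 (by norm_num) h5

/-- An element of an abelian subgroup whose linear constituents lie in one arc is sharp. -/
theorem sharp_of_linear [Fintype G] {n : ℕ} (ρ : Representation ℂ G (Fin n → ℂ)) (A : Subgroup G)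
    (m : Multiset (Cfsg.IrrCharacter A))
    (hm : ∀ g : A, ρ.character g = (m.map fun l : Cfsg.IrrCharacter A => (l : A → ℂ) g).sum)
    (hlin : ∀ l ∈ m, (l : A → ℂ) 1 = 1) (g : A) (a : ℂ)
    (hg : ∀ l ∈ m, ‖(l : A → ℂ) g - a‖ < 1 / 2) : Sharp ρ (g : G) := by
  classical
  obtain ⟨ι, hι, b, ζ, hb, -, -⟩ := Cfsg.Agent.Lib.Characters.Diag.exists_eigenbasis_card ρ (g : G)
  set N := Nat.card G
  have hN0 : N ≠ 0 := Nat.card_pos.ne'
  have hpowl : ∀ l ∈ m, ∀ k : ℕ, (l : A → ℂ) (g ^ k) = (l : A → ℂ) g ^ k := by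
    intro l hl k
    rw [← degOneHom_apply (isCharacter_irr l) (hlin l hl), map_pow, Units.val_pow_eq_pow_val,
      degOneHom_apply]
  have hlN : ∀ l ∈ m, (l : A → ℂ) g ^ N = 1 := by
    intro l hl
    rw [← hpowl l hl, show g ^ N = 1 from Subtype.ext (by
      rw [Subgroup.coe_pow, pow_card_eq_one', Subgroup.coe_one]), hlin l hl]
  have hsum : ∀ k : ℕ, ∑ i, ζ i ^ k = (m.map fun l : Cfsg.IrrCharacter A => (l : A → ℂ) g ^ k).sum := by
    intro k
    have h1 : ρ.character ((g : G) ^ k) = ∑ i, ζ i ^ k :=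
      Cfsg.Agent.Lib.Characters.Diag.trace_eq_sum_eigenvalues b _ _ fun i => by
        induction k with
        | zero => simp
        | succ k ih =>
          rw [pow_succ, map_mul, Module.End.mul_apply, (hb i).1, map_smul, ih, smul_smul, pow_succ']
    rw [← h1, ← Subgroup.coe_pow, hm]
    exact congrArg Multiset.sum (Multiset.map_congr rfl fun l hl => hpowl l hl k)
  have hin : ∀ i, ∃ l ∈ m, ζ i = (l : A → ℂ) g := by
    intro i
    by_contra hcon
    push Not at hcon
    set μ := ζ i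
    have hμN : μ ^ N = 1 := (hb i).2
    have hμ0 : μ ≠ 0 := fun h => by rw [h, zero_pow hN0] at hμN; exact zero_ne_one hμN
    have hdelta : ∀ z : ℂ, z ^ N = 1 →
        ∑ k ∈ Finset.range N, (z * μ⁻¹) ^ k = if z = μ then (N : ℂ) else 0 := by
      intro z hzN
      split_ifs with h
      · simp [h, mul_inv_cancel₀ hμ0]
      · rw [geom_sum_eq (fun h1 => h ((mul_inv_eq_one₀ hμ0).mp h1)), mul_pow, hzN, inv_pow, hμN,
          inv_one, mul_one, sub_self, zero_div]
    have h1 : ∑ k ∈ Finset.range N, (∑ j, ζ j ^ k) * μ⁻¹ ^ k =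
        (N : ℂ) * ((Finset.univ.filter fun j => ζ j = μ).card : ℂ) := by
      simp only [Finset.sum_mul, ← mul_pow]
      rw [Finset.sum_comm, Finset.sum_congr rfl fun j _ => hdelta (ζ j) (hb j).2,
        ← Finset.sum_filter, Finset.sum_const, nsmul_eq_mul, mul_comm]
    have h2 : ∑ k ∈ Finset.range N, (∑ j, ζ j ^ k) * μ⁻¹ ^ k = 0 := by
      simp only [hsum, ← Multiset.sum_map_mul_right, ← mul_pow, Finset.sum_eq_multiset_sum]
      rw [Multiset.sum_map_sum_map]
      refine Multiset.sum_eq_zero fun z hz => ?_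
      obtain ⟨l, hl, rfl⟩ := Multiset.mem_map.mp hz
      rw [← Finset.sum_eq_multiset_sum, hdelta _ (hlN l hl), if_neg (hcon l hl).symm]
    rw [h2] at h1
    have hpos : 0 < (Finset.univ.filter fun j => ζ j = μ).card :=
      Finset.card_pos.mpr ⟨i, by simp [μ]⟩
    simp [hN0] at h1
    exact h1 (x := i) rfl
  rcases isEmpty_or_nonempty ι with hE | hne
  · refine ⟨0, 0, le_rfl, by norm_num, fun v => ?_⟩
    have : v = 0 := by rw [← b.sum_repr v]; simp
    simp [this]
  · have hlt : ∀ i, ‖ζ i - a‖ < 1 / 2 := fun i => by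
      obtain ⟨l, hl, h⟩ := hin i
      exact h ▸ hg l hl
    let e := Fintype.equivFin ι
    refine ⟨a, Finset.univ.sup' Finset.univ_nonempty fun i => ‖ζ i - a‖, ?_, ?_, ?_⟩
    · exact le_trans (norm_nonneg _) (Finset.le_sup' (fun i => ‖ζ i - a‖) (Finset.mem_univ hne.some))
    · exact (Finset.sup'_lt_iff _).mpr fun i _ => hlt i
    · exact close_of_eigen ρ _ a _ b ζ (fun i => (hb i).1)
        (fun i => conj_mul_self_of_pow Nat.card_pos.ne' (hb i).2)
        (le_trans (norm_nonneg _) (Finset.le_sup' (fun i => ‖ζ i - a‖) (Finset.mem_univ hne.some)))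
        fun i => Finset.le_sup' (fun i => ‖ζ i - a‖) (Finset.mem_univ i)

/-- The subgroup generated by the sharp elements has small relative index in abelian subgroups. -/
theorem relIndex_le [Fintype G] {n : ℕ} (ρ : Representation ℂ G (Fin n → ℂ)) (A : Subgroup G)
    (hA : ∀ a ∈ A, ∀ b ∈ A, a * b = b * a) :
    (Subgroup.closure {g : G | Sharp ρ g}).relIndex A ≤ 12 ^ n := by
  classical
  set B := Subgroup.closure {g : G | Sharp ρ g}
  obtain ⟨m, hm⟩ := exists_multiset_sum
    (isCharacter_comp A.subtype (⟨n, ρ, rfl⟩ : Cfsg.IsCharacter G ρ.character))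
  have hval : ∀ g : A, ρ.character g = (m.map fun l : Cfsg.IrrCharacter A => (l : A → ℂ) g).sum := by
    intro g
    have := congrFun hm g
    rw [Function.comp_apply] at this
    rw [show ρ.character (g : G) = _ from this]
    refine Multiset.induction_on m (by simp) ?_
    intro l s ih
    simp [ih]
  have hlin : ∀ l ∈ m, (l : A → ℂ) 1 = 1 := fun l _ =>
    degree_eq_one_of_comm (fun a b => Subtype.ext (hA a a.2 b b.2)) l
  have hcard : m.toList.length = n := by
    have := hval 1
    rw [Multiset.map_congr rfl hlin, Subgroup.coe_one, Representation.char_one,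
      Module.finrank_fin_fun, Multiset.map_const', Multiset.sum_replicate, nsmul_one,
      Nat.cast_inj] at this
    rw [Multiset.length_toList]
    exact this.symm
  have hroot : ∀ l ∈ m, ∀ g : A, ‖(l : A → ℂ) g‖ = 1 := by
    intro l hl g
    refine Complex.norm_eq_one_of_pow_eq_one (n := Nat.card A) ?_ Nat.card_pos.ne'
    rw [← degOneHom_apply (isCharacter_irr l) (hlin l hl), ← Units.val_pow_eq_pow_val, ← map_pow,
      pow_card_eq_one', map_one, Units.val_one]
  let f : A ⧸ B.subgroupOf A → (Fin n → Fin 12) := fun q j =>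
    box (((m.toList.get (j.cast hcard.symm)) : Cfsg.IrrCharacter A) |>.1 q.out)
  have hf : Function.Injective f := by
    intro p q hpq
    rw [← QuotientGroup.out_eq' p, ← QuotientGroup.out_eq' q, QuotientGroup.eq]
    have hcommA : ∀ a b : A, a * b = b * a := fun a b => Subtype.ext (hA a a.2 b b.2)
    rw [Subgroup.mem_subgroupOf]
    refine Subgroup.subset_closure ?_
    refine sharp_of_linear ρ A m hval hlin _ ((Real.sqrt 3 / 2 : ℝ) : ℂ) fun l hl => ?_
    obtain ⟨⟨j, hj⟩, rfl⟩ := List.get_of_mem (Multiset.mem_toList.mpr hl)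
    have hbox := congrFun hpq (⟨j, hcard ▸ hj⟩ : Fin n)
    simp only [f] at hbox
    set l := m.toList.get ⟨j, hj⟩
    rw [show (l : A → ℂ) (p.out⁻¹ * q.out) = (l : A → ℂ) q.out * conj ((l : A → ℂ) p.out) by
      rw [← apply_inv (isCharacter_irr l), hcommA,
        apply_mul_of_degree_one (isCharacter_irr l) (hlin l hl)]]
    exact norm_sub_lt_of_box (hroot l hl _) (hroot l hl _) hbox.symm
  calc B.relIndex A = Nat.card (A ⧸ B.subgroupOf A) := rfl
    _ ≤ Nat.card (Fin n → Fin 12) := Nat.card_le_card_of_injective f hf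
    _ = 12 ^ n := by simp

/-- Jordan's theorem with the bound of Frobenius, Schur and Blichfeldt. -/
theorem jordan [Finite G] {χ : G → ℂ} (hχ : Cfsg.IsCharacter G χ) (hf : Faithful χ) {n : ℕ}
    (hn : Cfsg.charDegree χ = n) :
    ∃ B : Subgroup G, B.Normal ∧ (∀ x ∈ B, ∀ y ∈ B, x * y = y * x) ∧
      B.index ≤ n.factorial * 12 ^ (n * (Nat.primeCounting (n + 1) + 1)) := by
  classical
  have := Fintype.ofFinite G
  obtain ⟨d, ρ, rfl⟩ := id hχ
  obtain rfl : d = n := by
    have h := charDegree_cast hχ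
    rw [Representation.char_one, hn, Nat.cast_inj, Module.finrank_fin_fun] at h
    exact h
  have hinj : ∀ g : G, ρ g = 1 → g = 1 := fun g hg => hf g (by
    rw [Representation.character, hg, Representation.char_one, LinearMap.trace_one])
  set B := Subgroup.closure {g : G | Sharp ρ g} with hBdef
  have hBn : B.Normal := by
    refine ⟨fun g hg c => ?_⟩
    induction hg using Subgroup.closure_induction with
    | mem g hg =>
      obtain ⟨a, r, h0, h1, h2⟩ := hg
      exact Subgroup.subset_closure ⟨a, r, h0, h1, close_conj ρ h2 c⟩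
    | one => simp
    | mul a b _ _ ha hb =>
      rw [show c * (a * b) * c⁻¹ = (c * a * c⁻¹) * (c * b * c⁻¹) by group]
      exact mul_mem ha hb
    | inv a _ ha =>
      rw [show c * a⁻¹ * c⁻¹ = (c * a * c⁻¹)⁻¹ by group]
      exact inv_mem ha
  have hBc : ∀ x ∈ B, ∀ y ∈ B, x * y = y * x := by
    have hS : ∀ x ∈ {g : G | Sharp ρ g}, ∀ y ∈ {g : G | Sharp ρ g}, x * y = y * x :=
      fun x hx y hy => commute_of_sharp ρ hinj hx hy
    have : IsMulCommutative B := Subgroup.isMulCommutative_closure hS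
    exact fun x hx y hy => congrArg Subtype.val (mul_comm' (⟨x, hx⟩ : B) ⟨y, hy⟩)
  refine ⟨B, hBn, hBc, ?_⟩
  set T := (Finset.range (d + 2)).filter Nat.Prime with hT
  have hTc : T.card = Nat.primeCounting (d + 1) := by
    rw [hT, Nat.primeCounting, Nat.primeCounting', Nat.count_eq_card_filter_range]
  have hloc : ∀ r ∈ T, ∃ e : ℕ, r ^ e ∣ d.factorial ∧
      r ^ B.index.factorization r ≤ r ^ e * 12 ^ d := by
    intro r hr
    rw [hT, Finset.mem_filter] at hr
    have : Fact r.Prime := ⟨hr.2⟩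
    let P : Sylow r G := default
    haveI : Group.IsNilpotent P := IsPGroup.isNilpotent P.isPGroup'
    obtain ⟨A, hAc, hAi⟩ := exists_abelian_pgroup
      (isCharacter_comp (P : Subgroup G).subtype hχ) (faithful_restrict hf (P : Subgroup G))
    rw [charDegree_restrict, hn] at hAi
    set A' := A.map (P : Subgroup G).subtype
    obtain ⟨e, he⟩ := IsPGroup.index (P.isPGroup') A
    refine ⟨e, he ▸ hAi, ?_⟩
    have hA'c : ∀ a ∈ A', ∀ b ∈ A', a * b = b * a := by
      rintro _ ⟨a, ha, rfl⟩ _ ⟨b, hb, rfl⟩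
      exact congrArg Subtype.val (hAc a ha b hb)
    have hdvd : B.index ∣ B.relIndex A' * (A.index * (P : Subgroup G).index) := by
      rw [← Subgroup.index_map_subtype, ← Subgroup.inf_relIndex_right, Subgroup.relIndex_mul_index
        inf_le_right]
      exact Subgroup.index_dvd_of_le inf_le_left
    have hrv : r ^ B.index.factorization r ∣ B.relIndex A' * A.index := by
      have h1 := (Nat.ordProj_dvd B.index r).trans hdvd
      rw [← mul_assoc] at h1
      exact ((Nat.prime_iff.mp hr.2 |> fun _ => hr.2.coprime_iff_not_dvd.mpr P.not_dvd_index).pow_left _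
        ).dvd_of_dvd_mul_right h1
    have hpos : 0 < B.relIndex A' * A.index :=
      Nat.mul_pos (Nat.pos_of_ne_zero (Subgroup.index_ne_zero_of_finite (H := B.subgroupOf A')))
        (Nat.pos_of_ne_zero Subgroup.index_ne_zero_of_finite)
    calc r ^ B.index.factorization r ≤ B.relIndex A' * A.index := Nat.le_of_dvd hpos hrv
      _ ≤ 12 ^ d * r ^ e := Nat.mul_le_mul (relIndex_le ρ A' hA'c) he.le
      _ = _ := mul_comm _ _
  choose e he1 he2 using hloc
  set s := ∏ r ∈ T, r ^ B.index.factorization r with hs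
  have hTprime : ∀ r ∈ T, r.Prime := fun r hr => (Finset.mem_filter.mp hr).2
  have hsB : s ∣ B.index :=
    prod_prime_pow_dvd hTprime _ fun r _ => Nat.ordProj_dvd _ r
  obtain ⟨t, ht⟩ := hsB
  have htbig : IsBig d t := by
    intro q hq hqt
    by_contra hle
    have hqT : q ∈ T := Finset.mem_filter.mpr ⟨Finset.mem_range.mpr (by omega), hq⟩
    have h1 : q ^ (B.index.factorization q + 1) ∣ B.index := by
      conv_rhs => rw [ht]
      rw [pow_succ]
      exact mul_dvd_mul (Finset.dvd_prod_of_mem (fun r => r ^ (B.index.factorization r)) hqT) hqt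
    have h2 := (hq.pow_dvd_iff_le_factorization Subgroup.index_ne_zero_of_finite).mp h1
    omega
  obtain ⟨A₀, hA₀c, -, hA₀s⟩ := hasBigHall d hχ hf hn.le
  have htle : t ≤ 12 ^ d := by
    refine le_trans (Nat.le_of_dvd (Nat.pos_of_ne_zero (Subgroup.index_ne_zero_of_finite (H := B.subgroupOf A₀))) ?_)
      (relIndex_le ρ A₀ hA₀c)
    refine (coprime_of_big_small htbig hA₀s).dvd_of_dvd_mul_right ?_
    refine dvd_trans (Dvd.intro_left s ht.symm) ?_
    show B.index ∣ B.relIndex A₀ * A₀.index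
    rw [← Subgroup.inf_relIndex_right, Subgroup.relIndex_mul_index inf_le_right]
    exact Subgroup.index_dvd_of_le inf_le_left
  have hsle : s ≤ d.factorial * 12 ^ (d * T.card) := by
    let e' : ℕ → ℕ := fun r => if h : r ∈ T then e r h else 0
    have h1 : ∏ r ∈ T, r ^ e' r ∣ d.factorial := by
      refine prod_prime_pow_dvd hTprime _ fun r hr => ?_
      simp only [e', dif_pos hr]
      exact he1 r hr
    calc s ≤ ∏ r ∈ T, r ^ e' r * 12 ^ d := by
          refine Finset.prod_le_prod (fun _ _ => Nat.zero_le _) fun r hr => ?_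
          simp only [e', dif_pos hr]
          exact he2 r hr
      _ = (∏ r ∈ T, r ^ e' r) * 12 ^ (d * T.card) := by
          rw [Finset.prod_mul_distrib, Finset.prod_const, pow_mul]
      _ ≤ _ := Nat.mul_le_mul_right _ (Nat.le_of_dvd (Nat.factorial_pos d) h1)
  calc B.index = s * t := ht
    _ ≤ d.factorial * 12 ^ (d * T.card) * 12 ^ d := Nat.mul_le_mul hsle htle
    _ = _ := by rw [hTc, Nat.mul_add, Nat.mul_one, pow_add, mul_assoc]

end Cfsg.Agent.Lib.DegreeBounds.Jordan
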